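import Groth.Agent.AgPol.K969.Amp
import Groth.Agent.AgPol.K513.PolDeg

/-!
# A polarisation is fppf-locally attached to a relatively ample module

* `qloc` : `lam : A ⟶ At` a polarisation of an abelian scheme; after a faithfully flat base change locally of finite
  presentation, `lam` is the homomorphism attached to a relatively ample invertible module.

Proof: `c = (1, lam)^* P` has attached homomorphism `2 lam`; the 2-torsion is isotropic for `c²`; its lifting cocycle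
is symmetric, so it splits after a finite flat surjective base change; `c²` then descends along `[2]`.
-/

set_option autoImplicit false
universe u

open CategoryTheory Limits MonoidalCategory CartesianMonoidalCategory AlgebraicGeometry
open scoped MonObj

namespace K969.QLoc

open Groth.Agent Groth.Agent.Grpsch.PicGrp Groth.Agent.Fga.RigGrp K732.PicZero K732.Prim K732.Dual K732.CubeSec
open K814 K732.BC K969.ThBC K528.MumZero K814.MumHom

theorem isKernel_of_points {S : Scheme.{u}} {N A B : Over S} [GrpObj B] (i : N ⟶ A) [Mono i] (f : A ⟶ B)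
    (hif : i ≫ f = 1) (h : ∀ {W : Over S} (x : W ⟶ A), x ≫ f = 1 → ∃ n : W ⟶ N, n ≫ i = x) : AlgGrp.IsKernel i f := by
  have hs : ∀ s : PullbackCone f (η[B] : 𝟙_ (Over S) ⟶ B), s.fst ≫ f = 1 := fun s => by
    rw [s.condition, toUnit_unique s.snd (toUnit _)]
    rfl
  refine ⟨⟨hif⟩, ⟨PullbackCone.IsLimit.mk _ (fun s => (h s.fst (hs s)).choose) (fun s => (h s.fst (hs s)).choose_spec)
    (fun s => toUnit_unique _ _) fun s m hm _ => ?_⟩⟩
  rw [← cancel_mono i, hm, (h s.fst (hs s)).choose_spec]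

section bcpts

variable {S S' : Scheme.{u}} (k : S' ⟶ S) {A : Over S} [GrpObj A]

omit [GrpObj A] in
theorem pull_dnP {W : Over S'} (a : W ⟶ Red.bc k A) (c : Pic A.left) :
    pull a.left (pull (pullback.fst A.hom k) c) = (pull (dnP a).left c : Pic W.left) := (pull_comp _ _ _).symm

omit [GrpObj A] in
theorem mono_bc {N : Over S} (i : N ⟶ A) [Mono i] : Mono ((Over.pullback k).map i : Red.bc k N ⟶ Red.bc k A) :=
  ⟨fun a b h => by
    have h1 := congrArg dnP h
    rw [dnP_map, dnP_map, cancel_mono] at h1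
    rw [← up_dnP a, h1, up_dnP]⟩

theorem dnP_pow {W : Over S'} (a : W ⟶ Red.bc k A) (n : ℕ) : dnP (a ^ n) = dnP a ^ n := by
  induction n with
  | zero => rw [pow_zero, pow_zero, dnP_one]
  | succ n ih => rw [pow_succ, pow_succ, dnP_mul, ih]

theorem isKernel_bc {N : Over S} (i : N ⟶ A) [Mono i] (n : ℕ) (hi : AlgGrp.IsKernel i (𝟙 A ^ n : A ⟶ A)) :
    AlgGrp.IsKernel ((Over.pullback k).map i : Red.bc k N ⟶ Red.bc k A) (𝟙 (Red.bc k A) ^ n) := by
  have hp : ∀ {S : Scheme.{u}} {A W : Over S} [GrpObj A] (x : W ⟶ A), x ≫ (𝟙 A ^ n : A ⟶ A) = x ^ n := by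
    intro S A W _ x
    rw [MonObj.comp_pow, Category.comp_id]
  have := mono_bc k i
  refine isKernel_of_points _ _ ?_ fun {W} x hx => ?_
  · have h1 : dnP (((Over.pullback k).map i : Red.bc k N ⟶ Red.bc k A) ^ n) = dnP 1 := by
      rw [dnP_pow, dnP_one, ← hp]
      have h2 : dnP ((Over.pullback k).map i : Red.bc k N ⟶ Red.bc k A) = dnP (𝟙 (Red.bc k N)) ≫ i := by
        rw [← dnP_map]
        exact congrArg dnP (Category.id_comp _).symm
      rw [h2]
      exact K999.Ker.ker_comp hi _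
    rw [hp, ← up_dnP (_ ^ n), h1, up_dnP]
  · rw [hp] at hx
    have h1 : dnP x ≫ (𝟙 A ^ n : A ⟶ A) = 1 := by rw [hp, ← dnP_pow, hx, dnP_one]
    obtain ⟨y, hy⟩ := K999.Ker.ker_lift hi (dnP x) h1
    refine ⟨up y, ?_⟩
    rw [← up_comp, hy, up_dnP]

end bcpts

section descent

variable {S : Scheme.{u}} {A At : Over S} [GrpObj A] [IsCommMonObj A] [GrpObj At] [IsProper A.hom] [Flat A.hom]
  [LocallyOfFinitePresentation A.hom] [GeometricallyIntegral A.hom]
  {φ : ∀ T : Over S, PicF.Cl (PicF.XT A.hom T) → (T ⟶ At)}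
  (hD : AbDual.IsDualAV Scheme.fppfPrecoverage A At φ)
  {ξ : Pic (PicF.XT A.hom At)} (h1 : ξ ∈ pz A.hom At) (h2 : ξ ∈ rg A At) (h3 : cm φ ξ = 𝟙 At)
  {lam : A ⟶ At} (hlam : AgPol.IsPolarization A At φ lam)

include hD h1 h2 h3 hlam

/-- A class with `[2]^* m = c²` has attached homomorphism `lam`. -/
theorem hom_eq {S' : Scheme.{u}} (k : S' ⟶ S) (m : Pic (Red.bc k A).left)
    (hm : pull (𝟙 (Red.bc k A) ^ 2 : Red.bc k A ⟶ Red.bc k A).left m =
      pull (pullback.fst A.hom k) (ev (𝟙 A) lam ξ ^ 2)) :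
    pull (η[Red.bc k A] : 𝟙_ (Over S') ⟶ Red.bc k A).left m = 1 ∧
      hom (A := Red.bc k A) (At := Red.bc k At) (AgPol.bcDual k A At φ) m = (Over.pullback k).map lam := by
  have hlm := hlam.1
  have i1 : IsProper (Red.bc k A).hom := inferInstanceAs (IsProper (pullback.snd A.hom k))
  have i2 : GeometricallyIntegral (Red.bc k A).hom := inferInstanceAs (GeometricallyIntegral (pullback.snd A.hom k))
  have i3 : Flat (Red.bc k A).hom := inferInstanceAs (Flat (pullback.snd A.hom k))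
  have i4 : LocallyOfFinitePresentation (Red.bc k A).hom :=
    inferInstanceAs (LocallyOfFinitePresentation (pullback.snd A.hom k))
  have i5 : IsCommMonObj (Red.bc k A) := inferInstance
  have hD' := isDualAV_bc (k := k) hD
  have z1 := bcXi_mem_pz (k := k) h1
  have z2 := bcXi_mem_rg (k := k) h2
  have z3 : cm (A := Red.bc k A) (At := Red.bc k At) (AgPol.bcDual k A At φ) (bcXi k A At ξ) = 𝟙 (Red.bc k At) := by
    rw [cm_bcXi hD h1, h3]
    exact (Over.pullback k).map_id At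
  have hsq : ∀ {W : Over S'} (x : W ⟶ Red.bc k A),
      pull (x ^ 2).left m = (pull (dnP x).left (ev (𝟙 A) lam ξ ^ 2) : Pic W.left) := by
    intro W x
    have e : x ^ 2 = x ≫ (𝟙 (Red.bc k A) ^ 2 : Red.bc k A ⟶ Red.bc k A) := by
      rw [MonObj.comp_pow, Category.comp_id]
    rw [e, Over.comp_left, pull_comp, hm, pull_dnP]
  have hη : pull (η[Red.bc k A] : 𝟙_ (Over S') ⟶ Red.bc k A).left m = 1 := by
    have e : (η[Red.bc k A] : 𝟙_ (Over S') ⟶ Red.bc k A) = 1 ^ 2 := by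
      rw [one_pow]
      exact MonObj.one_eq_one _
    rw [e, hsq, dnP_one]
    exact Cls.sq_triv h1 h2 (one_pow 2)
  refine ⟨hη, ?_⟩
  have m1 : IsMonHom (hom (A := Red.bc k A) (At := Red.bc k At) (AgPol.bcDual k A At φ) m) :=
    isMonHom_hom (A := Red.bc k A) (At := Red.bc k At) hD' hη
  have m2 : IsMonHom ((Over.pullback k).map lam : Red.bc k A ⟶ Red.bc k At) := inferInstance
  refine MulEpi.eq_of_pow_eq (Red.bc k A) 4 (by norm_num) ?_
  have key : ∀ {W : Over S'} (a b : W ⟶ Red.bc k A),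
      ev a (b ≫ ((hom (A := Red.bc k A) (At := Red.bc k At) (AgPol.bcDual k A At φ) m) ^ 4)) (bcXi k A At ξ) =
        ev a (b ≫ (((Over.pullback k).map lam : Red.bc k A ⟶ Red.bc k At) ^ 4)) (bcXi k A At ξ) := by
    intro W a b
    have r1 : ev a (b ≫ (((Over.pullback k).map lam : Red.bc k A ⟶ Red.bc k At) ^ 4)) (bcXi k A At ξ) =
        (ev (dnP a) (dnP b ≫ lam) ξ ^ 4 : Pic W.left) := by
      rw [MonObj.comp_pow, Graph.ev_pow_right hD' z1 z2 z3]
      congr 1
      have e1 : b ≫ (Over.pullback k).map lam = up (dnP b ≫ lam) := by rw [up_comp, up_dnP]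
      have e2 : a = up (dnP a) := (up_dnP a).symm
      rw [e1]
      conv_lhs => rw [e2]
      exact ev_bcXi _ _ _
    rw [r1, MonObj.comp_pow, Graph.ev_pow_right hD' z1 z2 z3]
    have r2 : ev (a ^ 2) ((b ^ 2) ≫ hom (A := Red.bc k A) (At := Red.bc k At) (AgPol.bcDual k A At φ) m)
        (bcXi k A At ξ) = ev a (b ≫ hom (A := Red.bc k A) (At := Red.bc k At) (AgPol.bcDual k A At φ) m)
          (bcXi k A At ξ) ^ 4 := by
      rw [MonObj.pow_comp, Cls.ev_pow_left z1 z2, Graph.ev_pow_right hD' z1 z2 z3, ← pow_mul]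
    rw [← r2, ev_hom (A := Red.bc k A) (At := Red.bc k At) hD' z1 z2 z3 hη, ← mul_pow, hsq, hsq, hsq, dnP_mul]
    have r3 := Cls.sq_mul hD h1 h2 h3 hlam (dnP a) (dnP b)
    refine (congrArg (fun z : Pic W.left => z * _ * _) r3).trans ?_
    exact Amp.aux2 _ _ _
  have key2 : pull (PicF.XTmap (Red.bc k A).hom
      (hom (A := Red.bc k A) (At := Red.bc k At) (AgPol.bcDual k A At φ) m ^ 4)) (bcXi k A At ξ) =
      pull (PicF.XTmap (Red.bc k A).hom (((Over.pullback k).map lam : Red.bc k A ⟶ Red.bc k At) ^ 4))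
        (bcXi k A At ξ) := by
    refine ext_ev fun W a b => ?_
    rw [ev_XTmap, ev_XTmap, key]
  have key3 := congrArg (cm (A := Red.bc k A) (At := Red.bc k At) (AgPol.bcDual k A At φ)) key2
  rwa [cm_pull hD' _ z1, cm_pull hD' _ z1, z3, Category.comp_id, Category.comp_id] at key3

end descent

open ThetaGrp K999.Rel K969.Isot2 Groth.Agent.Sga3B.KerGrp

/-- The descent step: after a faithfully flat base change, `c²` descends along `[2]`. -/
theorem exists_half {S : Scheme.{u}} {A At : Over S} [GrpObj A] [IsCommMonObj A] [GrpObj At] [IsProper A.hom]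
    [Flat A.hom] [LocallyOfFinitePresentation A.hom] [GeometricallyIntegral A.hom]
    (hfin : IsFinite (𝟙 A ^ 2 : A ⟶ A).left)
    {φ : ∀ T : Over S, PicF.Cl (PicF.XT A.hom T) → (T ⟶ At)}
    (hD : AbDual.IsDualAV Scheme.fppfPrecoverage A At φ)
    {ξ : Pic (PicF.XT A.hom At)} (h1 : ξ ∈ pz A.hom At) (h2 : ξ ∈ rg A At) (h3 : cm φ ξ = 𝟙 At)
    {lam : A ⟶ At} (hlam : AgPol.IsPolarization A At φ lam) :
    ∃ (P : Over S), Surjective P.hom ∧ Flat P.hom ∧ LocallyOfFinitePresentation P.hom ∧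
      ∃ (M : (Red.bc P.hom A).left.Modules) (hM : PicF.IsInvertible M),
        pull (𝟙 (Red.bc P.hom A) ^ 2 : Red.bc P.hom A ⟶ Red.bc P.hom A).left (mk M hM) =
          pull (pullback.fst A.hom P.hom) (ev (𝟙 A) lam ξ ^ 2) := by
  obtain ⟨L₂, hL₂, e₂⟩ := exists_mk (ev (𝟙 A) lam ξ ^ 2)
  have hadd : Isot2.Add (A := A) 4 (mk L₂ hL₂) := by
    rw [← e₂]
    exact Cls.add4 hD h1 h2 h3 hlam
  have htriv : ∀ {W : Over S} {a : W ⟶ A}, a ^ 2 = 1 → pull a.left (mk L₂ hL₂) = 1 := by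
    intro W a ha
    rw [← e₂]
    exact Cls.sq_triv h1 h2 ha
  have hflat := MulEpi.flat_pow A 2 (by norm_num)
  have hlfp := Div.lfp_pow (A := A) 2
  have hmon := MulEpi.isMonHom_pow A 2
  obtain ⟨iG, iM⟩ := exists_grpObj (𝟙 A ^ 2 : A ⟶ A)
  have hK : AlgGrp.IsKernel (kerι (𝟙 A ^ 2 : A ⟶ A)) (𝟙 A ^ 2 : A ⟶ A) := isPullback_ker _
  have f1 : IsFinite (kerObj (𝟙 A ^ 2 : A ⟶ A)).hom :=
    inferInstanceAs (IsFinite (pullback.snd (𝟙 A ^ 2 : A ⟶ A).left (η[A] : 𝟙_ (Over S) ⟶ A).left))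
  have f2 : Flat (kerObj (𝟙 A ^ 2 : A ⟶ A)).hom :=
    inferInstanceAs (Flat (pullback.snd (𝟙 A ^ 2 : A ⟶ A).left (η[A] : 𝟙_ (Over S) ⟶ A).left))
  have f3 : LocallyOfFinitePresentation (kerObj (𝟙 A ^ 2 : A ⟶ A)).hom :=
    inferInstanceAs (LocallyOfFinitePresentation (pullback.snd (𝟙 A ^ 2 : A ⟶ A).left (η[A] : 𝟙_ (Over S) ⟶ A).left))
  have hmono : Mono (kerι (𝟙 A ^ 2 : A ⟶ A)) := inferInstance
  generalize kerι (𝟙 A ^ 2 : A ⟶ A) = i at *
  generalize kerObj (𝟙 A ^ 2 : A ⟶ A) = N at *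
  have hi2 : ∀ {W : Over S} (n : W ⟶ N), (n ≫ i) ^ 2 = 1 := by
    intro W n
    have h := K999.Ker.ker_comp hK n
    rwa [MonObj.comp_pow, Category.comp_id] at h
  have hi4 : ∀ {W : Over S} (n : W ⟶ N), (n ≫ i) ^ 4 = 1 := by
    intro W n
    have e : (n ≫ i) ^ 4 = ((n ≫ i) ^ 2) ^ 2 := by rw [← pow_mul]
    rw [e, hi2, one_pow]
  have hcomm : ∀ {T : Over S} (x y : T ⟶ N), x * y = y * x := by
    intro T x y
    rw [← cancel_mono i, MonObj.mul_comp, MonObj.mul_comp, mul_comm]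
  obtain ⟨β, hβ, hβ1⟩ := exists_theta_norm hL₂ i (fun a => by
    have e3 := hadd a (snd A N ≫ i) (hi4 _)
    have e4 : pull (snd A N ≫ i).left (mk L₂ hL₂) = 1 := htriv (hi2 _)
    refine e3.trans ?_
    refine (congrArg (pull a.left (mk L₂ hL₂) * ·) e4).trans (mul_one _))
  have hiso : IsIsotropic L₂ i := fun T x y β₁ β₂ g₁ g₂ =>
    comm_of_sq hL₂ hadd (hi2 x) (hi2 y) (over_iff.mp g₁) (over_iff.mp g₂)
  obtain ⟨c, hc⟩ := exists_coc hL₂ i hiso hβ hβ1
  obtain ⟨P, b, p1, p2, p3, hb⟩ := Coc.exists_split N hcomm c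
  refine ⟨P, p1, p2, p3, ?_⟩
  have i1 : IsProper (Red.bc P.hom A).hom := inferInstanceAs (IsProper (pullback.snd A.hom P.hom))
  have i2 : GeometricallyIntegral (Red.bc P.hom A).hom :=
    inferInstanceAs (GeometricallyIntegral (pullback.snd A.hom P.hom))
  have i3 : Flat (Red.bc P.hom A).hom := inferInstanceAs (Flat (pullback.snd A.hom P.hom))
  have i4 : LocallyOfFinitePresentation (Red.bc P.hom A).hom :=
    inferInstanceAs (LocallyOfFinitePresentation (pullback.snd A.hom P.hom))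
  have i5 : IsCommMonObj (Red.bc P.hom A) := inferInstance
  have g1 := MulEpi.flat_pow (Red.bc P.hom A) 2 (by norm_num)
  have g2 := MulEpi.surjective_pow (Red.bc P.hom A) 2 (by norm_num)
  have g3 := MulEpi.isMonHom_pow (Red.bc P.hom A) 2
  have g4 : IsProper (𝟙 (Red.bc P.hom A) ^ 2 : Red.bc P.hom A ⟶ Red.bc P.hom A).left :=
    K814.AbBasic.isProper_left (Red.bc P.hom A) (𝟙 (Red.bc P.hom A) ^ 2 : Red.bc P.hom A ⟶ Red.bc P.hom A)
  have hM₂ : PicF.IsInvertible (bL P.hom L₂) := Groth.Agent.Fdesc.LocGen.isInvertible_pullback _ hL₂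
  have g5 : IsMonHom ((Over.pullback P.hom).map i : Red.bc P.hom N ⟶ Red.bc P.hom A) := inferInstance
  obtain ⟨M, m, hmf, hM, -⟩ := K999.VIso.exists_descent_inv
    (𝟙 (Red.bc P.hom A) ^ 2 : Red.bc P.hom A ⟶ Red.bc P.hom A) (isKernel_bc P.hom i 2 hK) hM₂
    (klift i hcomm hβ c.c hc P b hb)
  refine ⟨M, hM, ?_⟩
  obtain ⟨e, -⟩ := K999.VIso.exists_iso_pmor m
  rw [e₂, pull_mk, pull_mk, mk_eq_iff]
  rw [hmf] at e
  exact ⟨e⟩

/-- **A polarisation is fppf-locally attached to a relatively ample module.** -/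
theorem qloc {S : Scheme.{u}} [IsLocallyNoetherian S] {g : ℕ} (A At : Over S) [GrpObj A] [IsCommMonObj A] [GrpObj At]
    [IsCommMonObj At] (hA : AgPol.IsAbSch A g) (φ : AgPol.DualMap A At)
    (hφ : AbDual.IsDualAV Scheme.fppfPrecoverage A At φ) (lam : A ⟶ At)
    (hl : AgPol.IsPolarization A At φ lam) :
    ∃ (T : Scheme.{u}) (k : T ⟶ S), Surjective k ∧ Flat k ∧ LocallyOfFinitePresentation k ∧
      ∃ L : (Red.bc k A).left.Modules, PicF.IsInvertible L ∧ RelAmple.IsRelAmple (Red.bc k A).hom L ∧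
        AgPol.IsLambda (Red.bc k A) (Red.bc k At) (AgPol.bcDual k A At φ) L ((Over.pullback k).map lam) := by
  have := hA.smooth
  have := hA.proper
  have := hA.geomConnected
  have hint : GeometricallyIntegral A.hom := K814.AbBasic.geometricallyIntegral A
  obtain ⟨ξ, h1, h2, h3⟩ := exists_poinc hφ (bijective_XTproj A.hom)
  obtain ⟨P, p1, p2, p3, M, hM, hm⟩ := exists_half (K513.PolDeg.isFinite_pow A g hA.fibreDim 2 (by norm_num))
    hφ h1 h2 h3 hl
  obtain ⟨hη, hh⟩ := hom_eq hφ h1 h2 h3 hl P.hom (mk M hM) hm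
  refine ⟨P.left, P.hom, p1, p2, p3, M, hM, ?_, ?_⟩
  · refine Amp.isRelAmple hφ h1 h2 h3 hl P.hom hM fun {W} a b => ?_
    have i1 : IsProper (Red.bc P.hom A).hom := inferInstanceAs (IsProper (pullback.snd A.hom P.hom))
    have i2 : GeometricallyIntegral (Red.bc P.hom A).hom :=
      inferInstanceAs (GeometricallyIntegral (pullback.snd A.hom P.hom))
    have i3 : Flat (Red.bc P.hom A).hom := inferInstanceAs (Flat (pullback.snd A.hom P.hom))
    have i4 : LocallyOfFinitePresentation (Red.bc P.hom A).hom :=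
      inferInstanceAs (LocallyOfFinitePresentation (pullback.snd A.hom P.hom))
    have z3 : cm (A := Red.bc P.hom A) (At := Red.bc P.hom At) (AgPol.bcDual P.hom A At φ)
        (bcXi P.hom A At ξ) = 𝟙 (Red.bc P.hom At) := by
      rw [cm_bcXi hφ h1, h3]
      exact (Over.pullback P.hom).map_id At
    have e := ev_hom (A := Red.bc P.hom A) (At := Red.bc P.hom At) (isDualAV_bc (k := P.hom) hφ)
      (bcXi_mem_pz (k := P.hom) h1) (bcXi_mem_rg (k := P.hom) h2) z3 hη a b
    rw [hh] at e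
    have e1 : b ≫ (Over.pullback P.hom).map lam = up (dnP b ≫ lam) := by rw [up_comp, up_dnP]
    have e2 : ev a (b ≫ (Over.pullback P.hom).map lam) (bcXi P.hom A At ξ) = Amp.evd (dnP a) (dnP b ≫ lam) ξ := by
      rw [e1]
      conv_lhs => rw [(up_dnP a).symm]
      exact ev_bcXi _ _ _
    rw [← e2, e]
    exact (K814.MumHom.aux_mul _ _ _).symm
  · rw [isLambda_iff (A := Red.bc P.hom A) (At := Red.bc P.hom At) _ hM, hh]

end K969.QLoc
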