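import Groth.Agent.AgPol.K969.Cls
import Groth.Agent.GIT.K438.LamTrans
import Groth.Agent.CurvSt.K900.RelAmp

/-!
# Relative ampleness of a class with attached homomorphism a polarisation

`k : S' ⟶ S`, `m` a class on the base change `A'` of `A` with `m(a b) = P(a, lam b) m(a) m(b)`, `lam` a polarisation:
then `m` is relatively ample over `S'`.
-/

set_option autoImplicit false
universe u

open CategoryTheory Limits MonoidalCategory CartesianMonoidalCategory AlgebraicGeometry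
open scoped MonObj

namespace K969.Amp

open Groth.Agent Groth.Agent.Grpsch.PicGrp Groth.Agent.Fga.RigGrp K732.PicZero K732.Prim K732.Dual K732.CubeSec
open K814 K732.BC K969.ThBC K528.MumZero K814.MumHom Groth.Agent.Models2.AmplePull

section bcbc

variable {S S' S'' : Scheme.{u}} (k : S' ⟶ S) (t : S'' ⟶ S') (A : Over S)

/-- The comparison of base changes. -/
noncomputable def i₀ : (Red.bc (t ≫ k) A).left ⟶ (Red.bc k A).left :=
  pullback.lift (pullback.fst A.hom (t ≫ k)) (pullback.snd A.hom (t ≫ k) ≫ t) (by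
    rw [pullback.condition, Category.assoc])

theorem i₀_fst : i₀ k t A ≫ pullback.fst A.hom k = pullback.fst A.hom (t ≫ k) := pullback.lift_fst _ _ _

theorem i₀_snd : i₀ k t A ≫ (Red.bc k A).hom = (Red.bc (t ≫ k) A).hom ≫ t := pullback.lift_snd _ _ _

theorem isPullback_i₀ : IsPullback (i₀ k t A) (Red.bc (t ≫ k) A).hom (Red.bc k A).hom t := by
  refine IsPullback.of_right (h₁₂ := pullback.fst A.hom k) (h₂₂ := k) (v₁₃ := A.hom) ?_ (i₀_snd k t A)
    (IsPullback.of_hasPullback A.hom k)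
  rw [i₀_fst]
  exact IsPullback.of_hasPullback A.hom (t ≫ k)

variable {k t A}

/-- The point under a point of the second base change. -/
noncomputable def dnI {W : Over S''} (a : W ⟶ Red.bc (t ≫ k) A) : dn t W ⟶ Red.bc k A :=
  Over.homMk (a.left ≫ i₀ k t A) (by
    rw [Category.assoc, i₀_snd, ← Category.assoc, Over.w]
    rfl)

variable (k t) in
/-- The identity. -/
noncomputable def ss (W : Over S'') : dn k (dn t W) ⟶ dn (t ≫ k) W := Over.homMk (𝟙 _) (by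
  change 𝟙 _ ≫ W.hom ≫ t ≫ k = (W.hom ≫ t) ≫ k
  rw [Category.id_comp, Category.assoc])

theorem dnP_dnI {W : Over S''} (a : W ⟶ Red.bc (t ≫ k) A) : dnP (dnI a) = ss k t W ≫ dnP a := by
  ext1
  change (a.left ≫ i₀ k t A) ≫ pullback.fst A.hom k = 𝟙 _ ≫ a.left ≫ pullback.fst A.hom (t ≫ k)
  rw [Category.assoc, i₀_fst, Category.id_comp]

theorem dnI_mul [GrpObj A] {W : Over S''} (a b : W ⟶ Red.bc (t ≫ k) A) : dnI (a * b) = dnI a * dnI b := by
  rw [← up_dnP (dnI (a * b)), dnP_dnI, dnP_mul, MonObj.comp_mul, up_mul, ← dnP_dnI, ← dnP_dnI, up_dnP, up_dnP]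

/-- The value of a class at points over the base. -/
noncomputable def evd {B : Over S} {W : Over S'} (a : dn k W ⟶ A) (b : dn k W ⟶ B) (ξ : Pic (PicF.XT A.hom B)) :
    Pic W.left := ev a b ξ

theorem ev_ss {B : Over S} {W : Over S''} (a : dn (t ≫ k) W ⟶ A) (b : dn (t ≫ k) W ⟶ B)
    (ξ : Pic (PicF.XT A.hom B)) : ev (ss k t W ≫ a) (ss k t W ≫ b) ξ = ev a b ξ := by
  rw [← pull_ev]
  exact pull_id _

end bcbc

theorem aux2 {G : Type*} [CommGroup G] (z x y : G) : z * x * y * x⁻¹ * y⁻¹ = z := by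
  rw [mul_right_comm _ y x⁻¹, mul_inv_cancel_right, mul_inv_cancel_right]

theorem tr_comp_tr {S : Scheme.{u}} {A : Over S} [GrpObj A] (x y : 𝟙_ (Over S) ⟶ A) :
    K512.Phi.tr x ≫ K512.Phi.tr y = K512.Phi.tr (x * y) := by
  rw [K512.Phi.tr, K512.Phi.tr, K512.Phi.tr, MonObj.comp_mul, Category.comp_id, ← Category.assoc, comp_toUnit, mul_assoc,
    ← MonObj.comp_mul]

theorem tr_one {S : Scheme.{u}} {A : Over S} [GrpObj A] : K512.Phi.tr (1 : 𝟙_ (Over S) ⟶ A) = 𝟙 A := by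
  rw [K512.Phi.tr, MonObj.comp_one, mul_one]

theorem isIso_tr {S : Scheme.{u}} {A : Over S} [GrpObj A] (x : 𝟙_ (Over S) ⟶ A) : IsIso (K512.Phi.tr x) :=
  ⟨K512.Phi.tr x⁻¹, by rw [tr_comp_tr, mul_inv_cancel, tr_one], by rw [tr_comp_tr, inv_mul_cancel, tr_one]⟩

section main

variable {S : Scheme.{u}} {A At : Over S} [GrpObj A] [GrpObj At] [IsProper A.hom] [Flat A.hom]
  [LocallyOfFinitePresentation A.hom] [GeometricallyIntegral A.hom]
  {φ : ∀ T : Over S, PicF.Cl (PicF.XT A.hom T) → (T ⟶ At)}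
  (hD : AbDual.IsDualAV Scheme.fppfPrecoverage A At φ)
  {ξ : Pic (PicF.XT A.hom At)} (h1 : ξ ∈ pz A.hom At) (h2 : ξ ∈ rg A At) (h3 : cm φ ξ = 𝟙 At)
  {lam : A ⟶ At} (hlam : AgPol.IsPolarization A At φ lam)

include hD h1 h2 h3 hlam

theorem isRelAmple {S' : Scheme.{u}} (k : S' ⟶ S) {M : (Red.bc k A).left.Modules} (hM : PicF.IsInvertible M)
    (hm : ∀ {W : Over S'} (a b : W ⟶ Red.bc k A), pull (a * b).left (mk M hM) =
      evd (dnP a) (dnP b ≫ lam) ξ * pull a.left (mk M hM) * pull b.left (mk M hM)) :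
    RelAmple.IsRelAmple (Red.bc k A).hom M := by
  have j1 : IsProper (Red.bc k A).hom := inferInstanceAs (IsProper (pullback.snd A.hom k))
  rw [K900.RelAmp.isRelAmple_iff_geom _ hM]
  intro Ω _ _ t X' i q sq
  have sq₀ := isPullback_i₀ k t A
  -- reduction to the canonical base change
  obtain ⟨e, he⟩ : ∃ e : X' ≅ (Red.bc (t ≫ k) A).left, e.hom ≫ i₀ k t A = i :=
    ⟨sq.isoIsPullback _ _ sq₀, sq.isoIsPullback_hom_fst _ _ sq₀⟩
  refine (isAmple_pullback_congr he M).mp ((isAmple_pullback_iff_of_isIso e.hom (i₀ k t A) M).mpr ?_)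
  -- the polarisation on the geometric fibre
  obtain ⟨L₀, hL₀, hl⟩ := hlam.2 Ω (t ≫ k)
  have i1 : IsProper (Red.bc (t ≫ k) A).hom := inferInstanceAs (IsProper (pullback.snd A.hom (t ≫ k)))
  have i2 : GeometricallyIntegral (Red.bc (t ≫ k) A).hom :=
    inferInstanceAs (GeometricallyIntegral (pullback.snd A.hom (t ≫ k)))
  have i3 : Flat (Red.bc (t ≫ k) A).hom := inferInstanceAs (Flat (pullback.snd A.hom (t ≫ k)))
  have i4 : LocallyOfFinitePresentation (Red.bc (t ≫ k) A).hom :=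
    inferInstanceAs (LocallyOfFinitePresentation (pullback.snd A.hom (t ≫ k)))
  rw [MumHom.isLambda_iff (A := Red.bc (t ≫ k) A) (At := Red.bc (t ≫ k) At) _ hL₀.1] at hl
  have hD₀ := isDualAV_bc (k := t ≫ k) hD
  have z1 := bcXi_mem_pz (k := t ≫ k) h1
  have z2 := bcXi_mem_rg (k := t ≫ k) h2
  have z3 : cm (A := Red.bc (t ≫ k) A) (At := Red.bc (t ≫ k) At) (AgPol.bcDual (t ≫ k) A At φ)
      (bcXi (t ≫ k) A At ξ) = 𝟙 (Red.bc (t ≫ k) At) := by
    rw [cm_bcXi hD h1, h3]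
    exact (Over.pullback (t ≫ k)).map_id At
  have hη : pull (η[Red.bc (t ≫ k) A] : 𝟙_ (Over (Spec (CommRingCat.of Ω))) ⟶ Red.bc (t ≫ k) A).left (mk L₀ hL₀.1) = 1 :=
    pic_spec_local Ω _
  have e1 : ∀ {W : Over (Spec (CommRingCat.of Ω))} (a b : W ⟶ Red.bc (t ≫ k) A),
      ev a b (mumCl (Red.bc (t ≫ k) A) (mk L₀ hL₀.1)) = ev (dnP a) (dnP b ≫ lam) ξ := by
    intro W a b
    rw [ev_mum, ← MumHom.ev_hom (A := Red.bc (t ≫ k) A) (At := Red.bc (t ≫ k) At) hD₀ z1 z2 z3 hη a b, ← hl]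
    obtain ⟨a, rfl⟩ := exists_up a
    obtain ⟨b, rfl⟩ := exists_up b
    rw [← up_comp, ev_bcXi, dnP_up, dnP_up]
  have e2 : ∀ {W : Over (Spec (CommRingCat.of Ω))} (a b : W ⟶ Red.bc (t ≫ k) A),
      ev a b (mumCl (Red.bc (t ≫ k) A) (pull (i₀ k t A) (mk M hM))) = ev (dnP a) (dnP b ≫ lam) ξ := by
    intro W a b
    have hp : ∀ c : W ⟶ Red.bc (t ≫ k) A, pull c.left (pull (i₀ k t A) (mk M hM)) =
        pull (dnI c).left (mk M hM) := fun c => (pull_comp _ _ _).symm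
    rw [ev_mum, hp, hp, hp, dnI_mul, hm, evd, dnP_dnI, dnP_dnI, Category.assoc, ev_ss]
    generalize pull (dnI a).left (mk M hM) = x
    generalize pull (dnI b).left (mk M hM) = y
    generalize ev (dnP a) (dnP b ≫ lam) ξ = z
    exact aux2 z x y
  have e3 : mumCl (Red.bc (t ≫ k) A) (mk L₀ hL₀.1) = mumCl (Red.bc (t ≫ k) A) (pull (i₀ k t A) (mk M hM)) :=
    ext_ev fun W a b => (e1 a b).trans (e2 a b).symm
  have e4 : MumHom.hom (A := Red.bc (t ≫ k) A) (At := Red.bc (t ≫ k) At) (AgPol.bcDual (t ≫ k) A At φ) (mk L₀ hL₀.1) =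
      MumHom.hom (A := Red.bc (t ≫ k) A) (At := Red.bc (t ≫ k) At) (AgPol.bcDual (t ≫ k) A At φ)
        (pull (i₀ k t A) (mk M hM)) := by
    rw [MumHom.hom, MumHom.hom, e3]
  have e5 := K438.LamTrans.inv_of_hom_eq (A := Red.bc (t ≫ k) A) (At := Red.bc (t ≫ k) At) hD₀ e4
  obtain ⟨x, hx⟩ := K512.PhiSurj.exists_eq (A := Red.bc (t ≫ k) A) (mk L₀ hL₀.1) _
    (K512.PhiSurj.finite_of_isAmple L₀ hL₀) (K518.Phi.mem_Inv_iff.1 e5)
  have e6 : pull (K512.Phi.tr x).left (mk L₀ hL₀.1) = pull (i₀ k t A) (mk M hM) := by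
    refine hx.trans ?_
    generalize mk L₀ hL₀.1 = y
    generalize pull (i₀ k t A) (mk M hM) = z
    rw [mul_comm z, mul_inv_cancel_left]
  rw [pull_mk, pull_mk, mk_eq_iff] at e6
  obtain ⟨e7⟩ := e6
  have i5 := isIso_tr (A := Red.bc (t ≫ k) A) x
  have i6 : IsIso (K512.Phi.tr x).left := inferInstanceAs (IsIso ((Over.forget _).map (K512.Phi.tr x)))
  exact isAmple_of_iso e7 (isAmple_pullback (K512.Phi.tr x).left hL₀)

end main

end K969.Amp
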