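import Mathlib.AlgebraicGeometry.Limits
import Mathlib.AlgebraicGeometry.GammaSpecAdjunction

/-!
# Functions and units on a disjoint union

* `exists_glue`, `ext_glue`, `exists_glue_units` : functions (units) on a disjoint union of open subschemes.
-/

set_option autoImplicit false
universe u

open CategoryTheory CategoryTheory.Limits AlgebraicGeometry
open scoped Function

noncomputable section

namespace K969.GlueFn

/-- The ring of the affine line. -/
abbrev RA : CommRingCat.{u} := CommRingCat.of (Polynomial (ULift.{u} ℤ))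

/-- The homomorphism sending the variable to an element. -/
def phi {B : CommRingCat.{u}} (v : B) : RA.{u} ⟶ B :=
  CommRingCat.ofHom (Polynomial.eval₂RingHom ((Int.castRingHom B).comp (ULift.ringEquiv : ULift.{u} ℤ ≃+* ℤ).toRingHom) v)

theorem phi_X {B : CommRingCat.{u}} (v : B) : (phi v).hom Polynomial.X = v := by
  change Polynomial.eval₂RingHom _ v Polynomial.X = v
  simp

theorem phi_comp {B C : CommRingCat.{u}} (g : B ⟶ C) (v : B) : phi v ≫ g = phi (g.hom v) := by
  ext1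
  apply Polynomial.ringHom_ext
  · intro a
    change g.hom (Polynomial.eval₂RingHom _ v (Polynomial.C a)) = Polynomial.eval₂RingHom _ _ (Polynomial.C a)
    simp
  · change g.hom (Polynomial.eval₂RingHom _ v Polynomial.X) = Polynomial.eval₂RingHom _ _ Polynomial.X
    simp

variable {X Y : Scheme.{u}}

/-- A function as a morphism to the affine line. -/
def toA (v : Γ(X, ⊤)) : X ⟶ Spec RA.{u} := X.toSpecΓ ≫ Spec.map (phi v)

/-- A morphism to the affine line as a function. -/
def ofA (f : X ⟶ Spec RA.{u}) : Γ(X, ⊤) := f.appTop.hom ((Scheme.ΓSpecIso RA.{u}).inv.hom Polynomial.X)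

theorem ofA_toA (v : Γ(X, ⊤)) : ofA (toA v) = v := by
  rw [ofA, toA, Scheme.Hom.comp_appTop, CommRingCat.comp_apply, ← CommRingCat.comp_apply (Scheme.ΓSpecIso RA.{u}).inv,
    ← Scheme.ΓSpecIso_inv_naturality, CommRingCat.comp_apply, Scheme.toSpecΓ_appTop, ← CommRingCat.comp_apply,
    Iso.inv_hom_id]
  exact phi_X v

theorem ofA_comp (g : Y ⟶ X) (f : X ⟶ Spec RA.{u}) : ofA (g ≫ f) = g.appTop.hom (ofA f) := by
  rw [ofA, ofA, Scheme.Hom.comp_appTop, CommRingCat.comp_apply]

theorem comp_toA (g : Y ⟶ X) (v : Γ(X, ⊤)) : g ≫ toA v = toA (g.appTop.hom v) := by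
  rw [toA, toA, ← phi_comp, Spec.map_comp, ← Category.assoc, ← Category.assoc, Scheme.toSpecΓ_naturality]

theorem toA_inj {v w : Γ(X, ⊤)} (h : toA v = toA w) : v = w := by
  rw [← ofA_toA v, h, ofA_toA]

section

variable {ι : Type u} {Y : ι → Scheme.{u}} (g : ∀ i, Y i ⟶ X) [∀ i, IsOpenImmersion (g i)]
  (hcov : ⨆ i, (g i).opensRange = ⊤) (hdisj : Pairwise (Disjoint on (g · |>.opensRange)))

include hcov hdisj

theorem exists_glue (v : ∀ i, Γ(Y i, ⊤)) : ∃ w : Γ(X, ⊤), ∀ i, (g i).appTop.hom w = v i := by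
  obtain ⟨hc⟩ := nonempty_isColimit_cofanMk_of g hcov hdisj
  let f : X ⟶ Spec RA.{u} := Cofan.IsColimit.desc hc (fun i => toA (v i))
  have hf : ∀ i, g i ≫ f = toA (v i) := fun i => Cofan.IsColimit.fac hc _ i
  refine ⟨ofA f, fun i => ?_⟩
  rw [← ofA_comp, hf, ofA_toA]

theorem ext_glue {w w' : Γ(X, ⊤)} (h : ∀ i, (g i).appTop.hom w = (g i).appTop.hom w') : w = w' := by
  obtain ⟨hc⟩ := nonempty_isColimit_cofanMk_of g hcov hdisj
  apply toA_inj
  refine Cofan.IsColimit.hom_ext hc _ _ fun i => ?_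
  change g i ≫ toA w = g i ≫ toA w'
  rw [comp_toA, comp_toA, h]

theorem exists_glue_units (v : ∀ i, Γ(Y i, ⊤)ˣ) :
    ∃ w : Γ(X, ⊤)ˣ, ∀ i, Units.map ((g i).appTop.hom : Γ(X, ⊤) →* Γ(Y i, ⊤)) w = v i := by
  obtain ⟨w, hw⟩ := exists_glue g hcov hdisj (fun i => (v i).1)
  obtain ⟨w', hw'⟩ := exists_glue g hcov hdisj (fun i => (v i)⁻¹.1)
  have h1 : w * w' = 1 := by
    refine ext_glue g hcov hdisj fun i => ?_
    rw [map_mul, hw, hw', map_one, Units.mul_inv]
  exact ⟨⟨w, w', h1, by rw [mul_comm, h1]⟩, fun i => Units.ext (hw i)⟩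

end

end K969.GlueFn
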