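import Groth.Agent.ThetaGrp.K999.Rel
import Groth.Agent.AbDual.K732.BC

/-!
# Base change of theta points along a morphism of base schemes

`k : S' ⟶ S`, `A` a group scheme over `S`, `L` a module on `A`, `T` an `S'`-scheme.

* `dnP a : dn k T ⟶ A` for `a : T ⟶ Red.bc k A` : inverse of `K732.BC.up`;
* `F : thetaPts A L (dn k T) →* thetaPts (Red.bc k A) (bL k L) T`; `pt_F`, `F_bc`.
-/

set_option autoImplicit false
universe u

open CategoryTheory CategoryTheory.Limits MonoidalCategory CartesianMonoidalCategory MonObj AlgebraicGeometry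
open ThetaGrp K999.Cart K999.Rel K732.BC

noncomputable section

namespace K969.ThBC

variable {S S' : Scheme.{u}} (k : S' ⟶ S)

section points

variable {k} {A B : Over S} {U U' : Over S'}

/-- The `S`-point under a point of the base change. -/
def dnP (a : U ⟶ Red.bc k A) : dn k U ⟶ A := dnMap k a ≫ prj k A

@[simp] theorem dnP_up (a : dn k U ⟶ A) : dnP (up a) = a := dnMap_up_prj a

@[simp] theorem up_dnP (a : U ⟶ Red.bc k A) : up (dnP a) = a := by
  obtain ⟨b, rfl⟩ := exists_up a
  rw [dnP_up]

theorem dnP_comp (g : U' ⟶ U) (a : U ⟶ Red.bc k A) : dnP (g ≫ a) = dnMap k g ≫ dnP a := by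
  apply up_inj
  rw [up_dnP, ← comp_up, up_dnP]

theorem dnP_map (a : U ⟶ Red.bc k A) (f : A ⟶ B) : dnP (a ≫ (Over.pullback k).map f) = dnP a ≫ f := by
  apply up_inj (A := B)
  rw [up_dnP, up_comp, up_dnP]

theorem dnP_mul [GrpObj A] (a b : U ⟶ Red.bc k A) : dnP (a * b) = dnP a * dnP b := by
  apply up_inj
  rw [up_dnP, up_mul, up_dnP, up_dnP]

theorem dnP_one [GrpObj A] : dnP (1 : U ⟶ Red.bc k A) = 1 := by
  apply up_inj
  rw [up_dnP, up_one]

theorem dnMap_comp {U'' : Over S'} (h : U'' ⟶ U') (g : U' ⟶ U) : dnMap k (h ≫ g) = dnMap k h ≫ dnMap k g := rfl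

theorem dnMap_id : dnMap k (𝟙 U) = 𝟙 (dn k U) := rfl

end points

section J

variable (A : Over S) (T : Over S')

/-- The comparison `(A ×_S S') ×_{S'} T ⟶ A ×_S T`. -/
def J : dn k (Red.bc k A ⊗ T) ⟶ A ⊗ dn k T :=
  lift (dnP (fst (Red.bc k A) T)) (dnMap k (snd (Red.bc k A) T))

theorem J_left : (J k A T).left = (iso k A T).hom := by
  apply pullback.hom_ext
  · rw [iso_hom_fst]
    exact congrArg CommaMorphism.left (lift_fst (dnP (fst (Red.bc k A) T)) (dnMap k (snd (Red.bc k A) T)))
  · refine (congrArg CommaMorphism.left (lift_snd (dnP (fst (Red.bc k A) T)) (dnMap k (snd (Red.bc k A) T)))).trans ?_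
    exact (iso_hom_snd (k := k) (A := A) (U := T)).symm

instance isIso_J_left : IsIso (J k A T).left := by
  rw [J_left]
  infer_instance

theorem J_nat {T T' : Over S'} (h : T' ⟶ T) :
    dnMap k (Red.bc k A ◁ h) ≫ J k A T = J k A T' ≫ (A ◁ dnMap k h) := by
  apply CartesianMonoidalCategory.hom_ext
  · rw [Category.assoc, J, lift_fst, ← dnP_comp, whiskerLeft_fst, Category.assoc, whiskerLeft_fst, J, lift_fst]
  · rw [Category.assoc, J, lift_snd, ← dnMap_comp, whiskerLeft_snd, Category.assoc, whiskerLeft_snd, J, lift_snd_assoc,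
      dnMap_comp]

theorem J_transl [GrpObj A] (x : dn k T ⟶ A) :
    dnMap k (transl (Red.bc k A) (up x)) ≫ J k A T = J k A T ≫ transl A x := by
  apply CartesianMonoidalCategory.hom_ext
  · rw [Category.assoc, J, lift_fst, ← dnP_comp, tr_fst, dnP_mul, dnP_comp, dnP_up, Category.assoc, tr_fst,
      MonObj.comp_mul, lift_fst, lift_snd_assoc]
  · rw [Category.assoc, J, lift_snd, ← dnMap_comp, tr_snd, Category.assoc, tr_snd, lift_snd]

end J

section theta

variable {A : Over S} [GrpObj A] (L : A.left.Modules)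

/-- The module on the base change. -/
abbrev bL : (Red.bc k A).left.Modules := (Scheme.Modules.pullback (pullback.fst A.hom k)).obj L

variable (T : Over S')

theorem jj_aux : (pr (Red.bc k A) (bL k L) T ≫ cart (pullback.fst A.hom k) L).base =
    (J k A T).left ≫ (pr A L (dn k T)).base := by
  change (fst (Red.bc k A) T).left ≫ pullback.fst A.hom k = (J k A T).left ≫ (fst A (dn k T)).left
  rw [← Over.comp_left, J, lift_fst]
  rfl

/-- The comparison of the objects of the theta groups. -/
def jj : thetaObj (Red.bc k A) (bL k L) T ⟶ thetaObj A L (dn k T) :=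
  (isCart_pr A L (dn k T)).lift (a' := thetaObj (Red.bc k A) (bL k L) T) (J k A T).left
    (pr (Red.bc k A) (bL k L) T ≫ cart (pullback.fst A.hom k) L) (jj_aux k L T)

theorem jj_base : (jj k L T).base = (J k A T).left := (isCart_pr A L (dn k T)).lift_base _ _ _

theorem jj_pr : jj k L T ≫ pr A L (dn k T) = pr (Red.bc k A) (bL k L) T ≫ cart (pullback.fst A.hom k) L :=
  (isCart_pr A L (dn k T)).lift_comp _ _ _

instance isIso_jj : IsIso (jj k L T) := by
  have h : IsCart (jj k L T) := (isCart_pr A L (dn k T)).of_comp (by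
    rw [jj_pr]
    exact (isCart_pr _ _ _).comp (isCart_cart _ _))
  exact h.isIso (by rw [jj_base]; infer_instance)

theorem jj_nat {T T' : Over S'} (h : T' ⟶ T) :
    bcLift (Red.bc k A) (bL k L) h ≫ jj k L T = jj k L T' ≫ bcLift A L (dnMap k h) := by
  apply (isCart_pr A L (dn k T)).ext
  · change (Red.bc k A ◁ h).left ≫ (jj k L T).base = (jj k L T').base ≫ (A ◁ dnMap k h).left
    rw [jj_base, jj_base]
    exact congrArg CommaMorphism.left (J_nat k A h)
  · rw [Category.assoc, jj_pr, Category.assoc, bcLift_pr, jj_pr, ← Category.assoc, bcLift_pr]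

/-- Base change of theta points, on automorphisms. -/
def FIso (β : thetaPts A L (dn k T)) : thetaPts (Red.bc k A) (bL k L) T :=
  ⟨(asIso (jj k L T) ≪≫ (β.1 : thetaObj A L (dn k T) ≅ thetaObj A L (dn k T)) ≪≫ (asIso (jj k L T)).symm :
    thetaObj (Red.bc k A) (bL k L) T ≅ thetaObj (Red.bc k A) (bL k L) T), up (pt β), by
      have hb : β.1.hom.base = (transl A (pt β)).left := over_pt β
      have h1 : (inv (jj k L T)).base = inv (J k A T).left := by
        have h2 : (jj k L T ≫ inv (jj k L T)).base = 𝟙 _ := by rw [IsIso.hom_inv_id]; rfl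
        change (jj k L T).base ≫ (inv (jj k L T)).base = 𝟙 _ at h2
        rw [jj_base] at h2
        exact (IsIso.inv_eq_of_hom_inv_id h2).symm
      change (jj k L T).base ≫ β.1.hom.base ≫ (inv (jj k L T)).base = _
      rw [h1, jj_base, hb, ← Category.assoc, IsIso.comp_inv_eq]
      exact (congrArg CommaMorphism.left (J_transl k A T (pt β))).symm⟩

theorem FIso_hom (β : thetaPts A L (dn k T)) :
    (FIso k L T β).1.hom ≫ jj k L T = jj k L T ≫ β.1.hom := by
  change (jj k L T ≫ β.1.hom ≫ inv (jj k L T)) ≫ jj k L T = _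
  rw [Category.assoc, Category.assoc, IsIso.inv_hom_id, Category.comp_id]

theorem eq_FIso {γ : thetaPts (Red.bc k A) (bL k L) T} {β : thetaPts A L (dn k T)}
    (h : γ.1.hom ≫ jj k L T = jj k L T ≫ β.1.hom) : γ = FIso k L T β := by
  apply ext_hom
  rw [← cancel_mono (jj k L T), h, FIso_hom]

/-- Base change of theta points. -/
def F : thetaPts A L (dn k T) →* thetaPts (Red.bc k A) (bL k L) T where
  toFun := FIso k L T
  map_one' := by
    symm
    apply eq_FIso
    rw [hom_one, hom_one, Category.id_comp, Category.comp_id]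
  map_mul' β₁ β₂ := by
    symm
    apply eq_FIso
    rw [hom_mul, hom_mul, Category.assoc, FIso_hom, ← Category.assoc, FIso_hom, Category.assoc]

theorem F_hom (β : thetaPts A L (dn k T)) : (F k L T β).1.hom ≫ jj k L T = jj k L T ≫ β.1.hom := FIso_hom k L T β

theorem pt_F (β : thetaPts A L (dn k T)) : pt (F k L T β) = up (pt β) := by
  rw [← over_iff]
  change (F k L T β).1.hom.base = _
  have hb : β.1.hom.base = (transl A (pt β)).left := over_pt β
  have h : ((F k L T β).1.hom ≫ jj k L T).base = (jj k L T ≫ β.1.hom).base := by rw [F_hom]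
  change (F k L T β).1.hom.base ≫ (jj k L T).base = (jj k L T).base ≫ β.1.hom.base at h
  rw [jj_base, hb] at h
  rw [← cancel_mono (J k A T).left, h]
  exact (congrArg CommaMorphism.left (J_transl k A T (pt β))).symm

theorem F_bc {T T' : Over S'} (h : T' ⟶ T) (β : thetaPts A L (dn k T)) :
    F k L T' (bc (dnMap k h) β) = bc h (F k L T β) := by
  rw [← isBaseChange_iff]
  change (F k L T' (bc (dnMap k h) β)).1.hom ≫ bcLift (Red.bc k A) (bL k L) h =
    bcLift (Red.bc k A) (bL k L) h ≫ (F k L T β).1.hom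
  have h1 : (bc (dnMap k h) β).1.hom ≫ bcLift A L (dnMap k h) = bcLift A L (dnMap k h) ≫ β.1.hom :=
    isBaseChange_iff.mpr (rfl : bc (dnMap k h) β = bc (dnMap k h) β)
  rw [← cancel_mono (jj k L T), Category.assoc, jj_nat, ← Category.assoc, F_hom, Category.assoc, h1,
    ← Category.assoc, ← jj_nat, Category.assoc, Category.assoc, F_hom]

end theta

end K969.ThBC
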