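import Groth.Agent.AgPol.K969.SplitR
import Groth.Agent.AgPol.K969.GlueFn
import Groth.Agent.AgPol.K969.ThBC
import Groth.Agent.ThetaGrp.K999.Sc

/-!
# Symmetric cocycles over any base split after a flat surjective base change

* `Coc N` : normalised symmetric 2-cocycles `N × N → G_m`;
* `Coc.chart` : base change to an affine scheme;
* `Coc.exists_split`.
-/

set_option autoImplicit false
universe u

open CategoryTheory CategoryTheory.Limits MonoidalCategory CartesianMonoidalCategory MonObj AlgebraicGeometry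
open K732.BC K999.Sc K969.ThBC
open scoped Function

noncomputable section

namespace K969

variable {S : Scheme.{u}}

/-- A normalised symmetric 2-cocycle with values in the multiplicative group. -/
structure Coc (N : Over S) [GrpObj N] where
  /-- the universal value -/
  c : Γ((N ⊗ N).left, ⊤)ˣ
  symm : ∀ {T : Over S} (x y : T ⟶ N), pu (lift x y) c = pu (lift y x) c
  assoc : ∀ {T : Over S} (x y z : T ⟶ N),
    pu (lift x y) c * pu (lift (x * y) z) c = pu (lift y z) c * pu (lift x (y * z)) c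
  one_left : ∀ {T : Over S} (y : T ⟶ N), pu (lift 1 y) c = 1

namespace Coc

section chart

variable {N : Over S} [GrpObj N] (c : Coc N) {R : Type u} [CommRing R] (k : Spec (CommRingCat.of R) ⟶ S)

/-- The comparison of products. -/
def prodMap (N : Over S) : dn k (Red.bc k N ⊗ Red.bc k N) ⟶ N ⊗ N :=
  lift (dnP (fst (Red.bc k N) (Red.bc k N))) (dnP (snd (Red.bc k N) (Red.bc k N)))

omit [GrpObj N] in
theorem dnMap_lift_prodMap {T : Over (Spec (CommRingCat.of R))} (x y : T ⟶ Red.bc k N) :
    dnMap k (lift x y) ≫ prodMap k N = lift (dnP x) (dnP y) := by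
  rw [prodMap, comp_lift, ← dnP_comp, ← dnP_comp, lift_fst, lift_snd]

/-- The value on the chart. -/
def cc : Γ((Red.bc k N ⊗ Red.bc k N).left, ⊤)ˣ := pu (prodMap k N) c.c

theorem map_cc {T : Over (Spec (CommRingCat.of R))} (x y : T ⟶ Red.bc k N) :
    K969.FunR.map (lift x y) (c.cc k).1 = (pu (lift (dnP x) (dnP y)) c.c).1 := by
  have h : pu (dnMap k (lift x y)) (pu (prodMap k N) c.c) = pu (lift (dnP x) (dnP y)) c.c := by
    rw [pu_comp, dnMap_lift_prodMap]
  exact congrArg Units.val h

/-- The cocycle on an affine chart. -/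
def chart : K969.FunR.Cocycle (Red.bc k N) where
  c := c.cc k
  symm x y := by
    rw [map_cc, map_cc, c.symm]
  assoc x y z := by
    rw [map_cc, map_cc, map_cc, map_cc, dnP_mul, dnP_mul]
    exact congrArg Units.val (c.assoc (dnP x) (dnP y) (dnP z))
  one_left y := by
    rw [map_cc, dnP_one]
    exact congrArg Units.val (c.one_left (dnP y))

omit [GrpObj N] in
theorem fn_finite [IsFinite N.hom] : Module.Finite R (K969.FunR.Fn (Red.bc k N)) := by
  have h0 : IsFinite (Red.bc k N).hom := inferInstanceAs (IsFinite (pullback.snd N.hom k))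
  have h1 : ((Red.bc k N).hom.appTop).hom.Finite := IsFinite.finite_app (Red.bc k N).hom ⊤ (isAffineOpen_top _)
  have h2 : ((Scheme.ΓSpecIso (CommRingCat.of R)).inv.hom).Finite :=
    RingHom.Finite.of_surjective _ (ConcreteCategory.bijective_of_isIso (Scheme.ΓSpecIso (CommRingCat.of R)).inv).2
  exact h1.comp h2

omit [GrpObj N] in
theorem fn_projective [IsFinite N.hom] [Flat N.hom] [LocallyOfFinitePresentation N.hom] :
    Module.Projective R (K969.FunR.Fn (Red.bc k N)) := by
  have hf := fn_finite (N := N) k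
  have h0 : IsFinite (Red.bc k N).hom := inferInstanceAs (IsFinite (pullback.snd N.hom k))
  have ha : IsAffine (Red.bc k N).left := isAffine_of_isAffineHom (Red.bc k N).hom
  have i1 : Flat (Red.bc k N).hom := inferInstanceAs (Flat (pullback.snd N.hom k))
  have i2 : LocallyOfFinitePresentation (Red.bc k N).hom :=
    inferInstanceAs (LocallyOfFinitePresentation (pullback.snd N.hom k))
  have hb := ConcreteCategory.bijective_of_isIso (Scheme.ΓSpecIso (CommRingCat.of R)).inv
  have h1 : ((Red.bc k N).hom.appTop).hom.Flat := HasRingHomProperty.appTop (P := @Flat) _ inferInstance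
  have h2 : ((Red.bc k N).hom.appTop).hom.FinitePresentation := Scheme.Hom.finitePresentation_appTop _
  have h3 : ((Scheme.ΓSpecIso (CommRingCat.of R)).inv.hom).Flat := RingHom.Flat.of_bijective hb
  have h4 : ((Scheme.ΓSpecIso (CommRingCat.of R)).inv.hom).FinitePresentation := RingHom.FinitePresentation.of_bijective hb
  have h5 : Module.Flat R (K969.FunR.Fn (Red.bc k N)) := RingHom.Flat.comp h3 h1
  have h6 : Algebra.FinitePresentation R (K969.FunR.Fn (Red.bc k N)) := h2.comp h4
  have h7 : Module.FinitePresentation R (K969.FunR.Fn (Red.bc k N)) :=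
    Module.FinitePresentation.of_finite_of_finitePresentation _ _
  exact Module.Flat.projective_of_finitePresentation

end chart

section chart2

variable {N : Over S} {R : Type u} [CommRing R] (k : Spec (CommRingCat.of R) ⟶ S) (P : Over (Spec (CommRingCat.of R)))

/-- The comparison of products. -/
def J' (N : Over S) : dn k (P ⊗ Red.bc k N) ⟶ dn k P ⊗ N :=
  lift (dnMap k (fst P (Red.bc k N))) (dnP (snd P (Red.bc k N)))

theorem dnMap_lift_J' {T : Over (Spec (CommRingCat.of R))} (p : T ⟶ P) (x : dn k T ⟶ N) :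
    dnMap k (lift p (up x)) ≫ J' k P N = lift (dnMap k p) x := by
  rw [J', comp_lift, ← dnMap_comp, ← dnP_comp, lift_fst, lift_snd, dnP_up]

theorem J'_eq : J' k P N = dnMap k (β_ P (Red.bc k N)).hom ≫ J k N P ≫ (β_ N (dn k P)).hom := by
  apply CartesianMonoidalCategory.hom_ext
  · rw [J', lift_fst, Category.assoc, Category.assoc, braiding_hom_fst, J, lift_snd, ← dnMap_comp, braiding_hom_snd]
  · rw [J', lift_snd, Category.assoc, Category.assoc, braiding_hom_snd, J, lift_fst, ← dnP_comp, braiding_hom_fst]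

instance isIso_J' : IsIso (J' k P N).left := by
  rw [J'_eq, Over.comp_left, Over.comp_left]
  have h1 : IsIso (dnMap k (β_ P (Red.bc k N)).hom).left :=
    inferInstanceAs (IsIso ((Over.forget _).map (β_ P (Red.bc k N)).hom))
  have h2 : IsIso (β_ N (dn k P)).hom.left := inferInstanceAs (IsIso ((Over.forget _).map (β_ N (dn k P)).hom))
  infer_instance

/-- A unit on the chart. -/
theorem exists_bhat (b : Γ((P ⊗ Red.bc k N).left, ⊤)ˣ) : ∃ b' : Γ((dn k P ⊗ N).left, ⊤)ˣ,
    ∀ {T : Over (Spec (CommRingCat.of R))} (p : T ⟶ P) (x : dn k T ⟶ N),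
      pu (lift (dnMap k p) x) b' = (pu (lift p (up x)) b : Γ(T.left, ⊤)ˣ) := by
  let ψ : Γ((dn k (P ⊗ Red.bc k N)).left, ⊤) →* Γ((dn k P ⊗ N).left, ⊤) := ((inv (J' k P N).left).appTop.hom : _ →* _)
  refine ⟨Units.map ψ b, fun {T} p x => ?_⟩
  have h : pu (J' k P N) (Units.map ψ b) = b := by
    apply Units.ext
    change (J' k P N).left.appTop.hom ((inv (J' k P N).left).appTop.hom b.1) = b.1
    rw [← CommRingCat.comp_apply, ← Scheme.Hom.comp_appTop, IsIso.hom_inv_id, Scheme.Hom.id_appTop]
    rfl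
  rw [← dnMap_lift_J', ← pu_comp, h]
  rfl

end chart2

section main

variable (N : Over S) [GrpObj N] [IsFinite N.hom] [Flat N.hom] [LocallyOfFinitePresentation N.hom]
  (hN : ∀ {T : Over S} (x y : T ⟶ N), x * y = y * x) (c : Coc N)

include hN

theorem exists_split_chart {R : Type u} [CommRing R] (k : Spec (CommRingCat.of R) ⟶ S) :
    ∃ (P : Over (Spec (CommRingCat.of R))) (b : Γ((dn k P ⊗ N).left, ⊤)ˣ), Flat P.hom ∧ Surjective P.hom ∧
      LocallyOfFinitePresentation P.hom ∧
      ∀ {T : Over (Spec (CommRingCat.of R))} (p : T ⟶ P) (x y : dn k T ⟶ N),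
        pu (lift (dnMap k p) x) b * pu (lift (dnMap k p) y) b =
          pu (lift x y) c.c * pu (lift (dnMap k p) (x * y)) b := by
  have h0 : IsFinite (Red.bc k N).hom := inferInstanceAs (IsFinite (pullback.snd N.hom k))
  have ha : IsAffine (Red.bc k N).left := isAffine_of_isAffineHom (Red.bc k N).hom
  have h1 := fn_finite (N := N) k
  have h2 := fn_projective (N := N) k
  obtain ⟨P, b, -, g1, g2, g3, hb⟩ := (c.chart k).exists_universal (fun x y => by
    rw [← up_dnP x, ← up_dnP y, ← up_mul, ← up_mul, hN])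
  obtain ⟨b', hb'⟩ := exists_bhat (N := N) k P b
  refine ⟨P, b', g1, g2, g3, fun {T} p x y => ?_⟩
  have e := hb p (up x) (up y)
  have e1 : (c.chart k).val (up x) (up y) = (pu (lift x y) c.c).1 := by
    refine (map_cc c k (up x) (up y)).trans ?_
    rw [dnP_up, dnP_up]
  rw [e1, ← up_mul] at e
  rw [hb', hb', hb']
  exact Units.ext e

omit [GrpObj N] [IsFinite N.hom] [Flat N.hom] [LocallyOfFinitePresentation N.hom] hN in
theorem isPullback_whiskerRight {T T' : Over S} (h : T' ⟶ T) :
    IsPullback (h ▷ N) (fst T' N) (fst T N) h := by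
  refine ⟨⟨whiskerRight_fst h N⟩, ⟨PullbackCone.IsLimit.mk _ (fun s => lift s.snd (s.fst ≫ snd T N)) ?_ ?_ ?_⟩⟩
  · intro s
    apply CartesianMonoidalCategory.hom_ext
    · rw [Category.assoc, whiskerRight_fst, lift_fst_assoc, s.condition]
    · rw [Category.assoc, whiskerRight_snd, lift_snd]
  · intro s
    rw [lift_fst]
  · intro s m h1 h2
    apply CartesianMonoidalCategory.hom_ext
    · rw [lift_fst, h2]
    · rw [lift_snd, ← h1, Category.assoc, whiskerRight_snd]

omit [GrpObj N] [IsFinite N.hom] [Flat N.hom] [LocallyOfFinitePresentation N.hom] hN in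
theorem range_whiskerRight {T T' : Over S} (h : T' ⟶ T) :
    Set.range (h ▷ N).left = (fst T N).left ⁻¹' Set.range h.left := by
  have sq : IsPullback (h ▷ N).left (fst T' N).left (fst T N).left h.left :=
    (isPullback_whiskerRight N h).map (Over.forget S)
  rw [← sq.isoPullback_hom_fst, Scheme.Hom.comp_base, TopCat.coe_comp, Set.range_comp]
  rw [Set.range_eq_univ.mpr sq.isoPullback.hom.surjective, Set.image_univ, Scheme.Pullback.range_fst]

/-- **Symmetric cocycles split after a faithfully flat base change.** -/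
theorem exists_split : ∃ (P : Over S) (b : Γ((P ⊗ N).left, ⊤)ˣ), Surjective P.hom ∧ Flat P.hom ∧
    LocallyOfFinitePresentation P.hom ∧ ∀ {T : Over S} (p : T ⟶ P) (x y : T ⟶ N),
      pu (lift p x) b * pu (lift p y) b = pu (lift x y) c.c * pu (lift p (x * y)) b := by
  have hU : ∀ s : S, ∃ U : S.Opens, IsAffineOpen U ∧ s ∈ U := fun s => by
    obtain ⟨_, ⟨W, hW, rfl⟩, hsW, -⟩ := S.isBasis_affineOpens.exists_subset_of_mem_open
      (show s ∈ ((⊤ : S.Opens) : Set S) from trivial) (⊤ : S.Opens).2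
    exact ⟨W, hW, hsW⟩
  choose U hU hsU using hU
  let k : ∀ s : S, Spec (CommRingCat.of Γ(S, U s)) ⟶ S := fun s => (hU s).fromSpec
  choose P b h1 h2 h3 h4 using fun s => exists_split_chart N hN c (k s)
  let X : S → Scheme.{u} := fun s => (P s).left
  let Q : Over S := Over.mk (Sigma.desc fun s => (P s).hom ≫ k s)
  let j : ∀ s, dn (k s) (P s) ⟶ Q := fun s => Over.homMk (Sigma.ι X s) (Sigma.ι_desc _ _)
  let g : ∀ s, (dn (k s) (P s) ⊗ N).left ⟶ (Q ⊗ N).left := fun s => (j s ▷ N).left
  have sq : ∀ s, IsPullback (g s) (fst (dn (k s) (P s)) N).left (fst Q N).left (Sigma.ι X s) := fun s =>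
    (isPullback_whiskerRight N (j s)).map (Over.forget S)
  have hg : ∀ s, IsOpenImmersion (g s) := fun s => MorphismProperty.of_isPullback (sq s).flip inferInstance
  have hr : ∀ s, Set.range (g s) = (fst Q N).left ⁻¹' Set.range (Sigma.ι X s) := fun s =>
    range_whiskerRight N (j s)
  have hcov : ⨆ s, (g s).opensRange = ⊤ := by
    rw [eq_top_iff]
    intro x _
    obtain ⟨s, y, hy⟩ : ∃ s, ∃ y, Sigma.ι X s y = (fst Q N).left x := by
      obtain ⟨⟨s, y⟩, hy⟩ := (sigmaMk X).surjective ((fst Q N).left x)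
      exact ⟨s, y, by rw [← hy, sigmaMk_mk]⟩
    refine TopologicalSpace.Opens.mem_iSup.mpr ⟨s, ?_⟩
    change x ∈ Set.range (g s)
    rw [hr]
    exact ⟨y, hy⟩
  have hdisj : Pairwise (Disjoint on (g · |>.opensRange)) := by
    intro s t hst
    rw [Function.onFun, disjoint_iff, ← le_bot_iff]
    rintro x ⟨hx1, hx2⟩
    change x ∈ Set.range (g s) at hx1
    change x ∈ Set.range (g t) at hx2
    rw [hr] at hx1 hx2
    have h5 := disjoint_iff.mp (disjoint_opensRange_sigmaι X s t hst)
    have h6 : (fst Q N).left x ∈ (Sigma.ι X s).opensRange ⊓ (Sigma.ι X t).opensRange := ⟨hx1, hx2⟩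
    rw [h5] at h6
    exact h6.elim
  obtain ⟨w, hw⟩ := GlueFn.exists_glue_units g hcov hdisj b
  have hw' : ∀ s, pu (j s ▷ N) w = b s := hw
  -- values
  have hv : ∀ (s : S) {T : Over (Spec (CommRingCat.of Γ(S, U s)))} (p : T ⟶ P s) (x : dn (k s) T ⟶ N),
      pu (lift (dnMap (k s) p ≫ j s) x) w = pu (lift (dnMap (k s) p) x) (b s) := by
    intro s T p x
    rw [← hw' s, pu_comp, lift_whiskerRight]
  refine ⟨Q, w, ?_, ?_, ?_, ?_⟩
  · refine Surjective.sigmaDesc_of_union_range_eq_univ ?_
    rw [Set.eq_univ_iff_forall]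
    intro s
    have hs : s ∈ Set.range (k s) := by
      rw [(hU s).range_fromSpec]
      exact hsU s
    obtain ⟨r, hr'⟩ := hs
    obtain ⟨z, hz⟩ := (h2 s).surj r
    exact Set.mem_iUnion.mpr ⟨s, z, by rw [Scheme.Hom.comp_apply, hz, hr']⟩
  · exact IsZariskiLocalAtSource.sigmaDesc (fun s => inferInstance)
  · exact IsZariskiLocalAtSource.sigmaDesc (fun s => inferInstance)
  · intro T p x y
    apply unit_ext
    intro t
    obtain ⟨s, y', hy'⟩ : ∃ s, ∃ y', Sigma.ι X s y' = p.left t := by
      obtain ⟨⟨s, y⟩, hy⟩ := (sigmaMk X).surjective (p.left t)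
      exact ⟨s, y, by rw [← hy, sigmaMk_mk]⟩
    let V : T.left.Opens := p.left ⁻¹ᵁ (Sigma.ι X s).opensRange
    let p' : V.toScheme ⟶ (P s).left := IsOpenImmersion.lift (Sigma.ι X s) (V.ι ≫ p.left) (by
      rw [Scheme.Hom.comp_base, TopCat.coe_comp, Set.range_comp]
      rintro _ ⟨z, hz, rfl⟩
      rw [Scheme.Opens.range_ι] at hz
      exact hz)
    have hp' : p' ≫ Sigma.ι X s = V.ι ≫ p.left := IsOpenImmersion.lift_fac _ _ _
    let T₁ : Over (Spec (CommRingCat.of Γ(S, U s))) := Over.mk (p' ≫ (P s).hom)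
    let q : T₁ ⟶ P s := Over.homMk p' rfl
    have hw1 : V.ι ≫ T.hom = (p' ≫ (P s).hom) ≫ k s := by
      have e1 : Sigma.ι X s ≫ Q.hom = (P s).hom ≫ k s := Sigma.ι_desc _ _
      rw [← Over.w p, ← Category.assoc, ← hp', Category.assoc, e1, Category.assoc]
    let h : dn (k s) T₁ ⟶ T := Over.homMk V.ι hw1
    have hh : h ≫ p = dnMap (k s) q ≫ j s := Over.OverMorphism.ext hp'.symm
    refine ⟨V, ⟨y', hy'⟩, ?_⟩
    change pu h (pu (lift p x) w * pu (lift p y) w) = pu h (pu (lift x y) c.c * pu (lift p (x * y)) w)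
    rw [map_mul, map_mul, pu_comp, pu_comp, pu_comp, pu_comp, comp_lift, comp_lift, comp_lift, comp_lift, hh, hv, hv, hv,
      MonObj.comp_mul]
    exact h4 s q (h ≫ x) (h ≫ y)

end main

end Coc

end K969
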