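import Groth.Agent.ThetaGrp.K999.Iso
import Groth.Agent.ThetaGrp.K999.Sc
import Groth.Agent.AgPol.K969.Glob
import Groth.Agent.AgPol.K814.Div
import Groth.Agent.Sga3B.KerGrp

/-!
# Isotropy of the 2-torsion, over any base

`A` an abelian scheme over `S`, `L` invertible on `A`, additive along the 4-torsion.

* `comm_of_sq` : theta points over 2-torsion points commute;
* `exists_theta_norm`, `exists_coc` : the normalised theta point over `i : N ⟶ A`, its cocycle;
* `klift` : after a base change splitting the cocycle, `N` lifts to the theta group.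
-/

set_option autoImplicit false
universe u

open CategoryTheory CategoryTheory.Limits MonoidalCategory CartesianMonoidalCategory MonObj AlgebraicGeometry
open ThetaGrp K999.Cart K999.Rel K999.Ker K999.Act K999.EDesc K999.VIso K999.Scal K999.Mum K999.Sc
open Groth.Agent.Grpsch.PicGrp K529.KL K732.BC K969.ThBC

noncomputable section

namespace K969.Isot2

variable {S : Scheme.{u}}

theorem pushO (A : Over S) [IsProper A.hom] [Flat A.hom] [LocallyOfFinitePresentation A.hom]
    [GeometricallyIntegral A.hom] : PushO A := fun T => K732.CubeSec.bijective_XTproj A.hom T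

/-- Functions inject under a faithfully flat morphism. -/
theorem pu_inj {T T' : Over S} (j : T' ⟶ T) [Epi j.left] {v w : Γ(T.left, ⊤)ˣ} (h : pu j v = pu j w) : v = w := by
  have h1 : j.left.appTop.hom v.1 = j.left.appTop.hom w.1 := congrArg Units.val h
  have h2 : GlueFn.toA (X := T.left) v.1 = GlueFn.toA (X := T.left) w.1 := by
    rw [← cancel_epi j.left, GlueFn.comp_toA, GlueFn.comp_toA, h1]
  exact Units.ext (GlueFn.toA_inj (X := T.left) h2)

/-- The class is additive along points killed by `n`. -/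
def Add {A : Over S} [GrpObj A] (n : ℕ) (c : Pic A.left) : Prop :=
  ∀ {W : Over S} (a b : W ⟶ A), b ^ n = 1 → pl (a * b) c = pl a c * pl b c

variable {A : Over S} [GrpObj A] [IsCommMonObj A] [IsProper A.hom] [Flat A.hom] [LocallyOfFinitePresentation A.hom]
  [GeometricallyIntegral A.hom] {L : A.left.Modules} (hL : PicF.IsInvertible L)

include hL

/-- Theta points over 2-torsion points commute. -/
theorem comm_of_sq (h4 : Add 4 (mk L hL)) {T : Over S} {x y : T ⟶ A} (hx : x ^ 2 = 1) (hy : y ^ 2 = 1)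
    {β₁ β₂ : thetaPts A L T} (h₁ : pt β₁ = x) (h₂ : pt β₂ = y) : β₁ * β₂ = β₂ * β₁ := by
  have hA := pushO A
  obtain ⟨v, hv⟩ := exists_com hA hL β₁ β₂
  rw [← com_one_iff]
  suffices h : v = 1 by rwa [h] at hv
  obtain ⟨V, j, y', hj1, hj2, hj3, hy', -⟩ := K814.Div.exists_cov_root 2 (by norm_num) y
  have hj4 : Epi j.left := Flat.epi_of_flat_of_surjective _
  apply pu_inj j
  rw [map_one]
  apply unit_ext
  intro t
  have hy4 : y' ^ 4 = 1 := by
    have : y' ^ 4 = (y' ^ 2) ^ 2 := by rw [← pow_mul]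
    rw [this, hy', ← MonObj.comp_pow, hy, MonObj.comp_one]
  obtain ⟨U, ht, γ, hγ⟩ := exists_local_theta hL y' (by
    rw [h4 _ _ (by rw [← MonObj.comp_pow, hy4, MonObj.comp_one])]) t
  refine ⟨U, ht, ?_⟩
  let h : Over.mk (U.ι ≫ V.hom) ⟶ T := oin V U ≫ j
  have c1 : Com (bc h β₁) (bc h β₂) (pu h v) := com_bc h hv
  obtain ⟨e, he⟩ := exists_com hA hL (bc h β₁) γ
  obtain ⟨u, hu⟩ := exists_sc (β := bc h β₁ * bc h β₁) hA hL (by
    rw [pt_mul, pt_bc, h₁, ← sq, ← MonObj.comp_pow, hx, MonObj.comp_one])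
  have hz : ∀ g : thetaPts A L (Over.mk (U.ι ≫ V.hom)), sc A L e * g = g * sc A L e := fun g => sc_comm e g
  rw [Com] at he
  have e1 : bc h β₁ * (γ * γ) = sc A L e * sc A L e * (γ * γ * bc h β₁) := by
    rw [← _root_.mul_assoc, he, _root_.mul_assoc (sc A L e), _root_.mul_assoc γ, he, ← _root_.mul_assoc γ, ← hz γ]
    simp only [_root_.mul_assoc]
  have e2 : bc h β₁ * bc h β₁ * γ = sc A L e * sc A L e * (γ * (bc h β₁ * bc h β₁)) := by
    rw [_root_.mul_assoc, he, ← _root_.mul_assoc, ← hz, _root_.mul_assoc, ← _root_.mul_assoc (bc h β₁), he]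
    simp only [_root_.mul_assoc]
  have e3 : sc A L e * sc A L e = 1 := by
    rw [hu, sc_comm] at e2
    exact mul_right_cancel (e2.symm.trans (_root_.one_mul _).symm)
  have c2 : Com (bc h β₁) (γ * γ) 1 := by
    rw [com_one_iff, e1, e3, _root_.one_mul]
  have c3 : Com (bc h β₁) (bc h β₂) 1 := com_of_pt hA hL c2 rfl (by
    rw [pt_mul, pt_bc, h₂, hγ, ← MonObj.comp_mul, ← sq, hy', Category.assoc])
  have c4 := com_unique hL c1 c3
  rw [map_one, pu_comp]
  exact c4

section cocycle

variable {N : Over S} [GrpObj N] (i : N ⟶ A) [IsMonHom i]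

omit [IsCommMonObj A] in
/-- Normalised theta point over a subgroup. -/
theorem exists_theta_norm (hi : ∀ a : A ⊗ N ⟶ A, pl (a * (snd A N ≫ i)) (mk L hL) = pl a (mk L hL)) :
    ∃ β : thetaPts A L N, pt β = i ∧ bc η β = 1 := by
  obtain ⟨β, hβ⟩ := (exists_theta_iff hL i).mpr (hi _)
  have h1 : pt (bc η β) = 1 := by
    rw [pt_bc, hβ, IsMonHom.one_hom]
    exact MonObj.one_eq_one A
  obtain ⟨v, hv⟩ := exists_sc (pushO A) hL h1
  refine ⟨sc A L (pu (toUnit N) v⁻¹) * β, ?_, ?_⟩
  · rw [pt_mul, pt_sc, _root_.mul_one, hβ]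
  · rw [map_mul, bc_sc, pu_comp, hv, toUnit_unique (η ≫ toUnit N) (𝟙 _), pu_id, ← sc_mul, inv_mul_cancel, sc_one]

omit [IsCommMonObj A] [IsProper A.hom] [Flat A.hom] [LocallyOfFinitePresentation A.hom]
  [GeometricallyIntegral A.hom] [GrpObj N] hL in
theorem bc_mul_eq [GrpObj N] {β : thetaPts A L N} {c : Γ((N ⊗ N).left, ⊤)ˣ}
    (hc : bc (fst N N) β * bc (snd N N) β = sc A L c * bc μ β)
    {T : Over S} (x y : T ⟶ N) :
    bc x β * bc y β = sc A L (pu (lift x y) c) * bc (x * y) β := by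
  have h := congrArg (bc (lift x y)) hc
  rw [map_mul, map_mul, bc_bc, bc_bc, bc_bc, bc_sc, lift_fst, lift_snd] at h
  exact h

/-- The cocycle of a normalised theta point over an isotropic subgroup. -/
theorem exists_coc [Mono i] (hiso : IsIsotropic L i) {β : thetaPts A L N} (hβ : pt β = i) (hβ1 : bc η β = 1) :
    ∃ c : Coc N, ∀ {T : Over S} (x y : T ⟶ N),
      bc x β * bc y β = sc A L (pu (lift x y) c.c) * bc (x * y) β := by
  have hcomm : ∀ {T : Over S} (x y : T ⟶ N), x * y = y * x := by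
    intro T x y
    rw [← cancel_mono i, MonObj.mul_comp, MonObj.mul_comp, _root_.mul_comm]
  obtain ⟨c, hc⟩ := exists_sc_mul (β := bc (fst N N) β * bc (snd N N) β) (β' := bc μ β) (pushO A) hL (by
    rw [pt_mul, pt_bc, pt_bc, pt_bc, hβ, ← MonObj.mul_comp, hcomm, MonObj.mul_eq_mul])
  have key := fun {T : Over S} (x y : T ⟶ N) => bc_mul_eq hc x y
  have hpt : ∀ {T : Over S} (x : T ⟶ N), pt (bc x β) = x ≫ i := fun x => by rw [pt_bc, hβ]
  have hsymm : ∀ {T : Over S} (x y : T ⟶ N), pu (lift x y) c = pu (lift y x) c := by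
    intro T x y
    have h := hiso T x y (bc x β) (bc y β) (over_iff.mpr (hpt x)) (over_iff.mpr (hpt y))
    rw [key, key, hcomm y x] at h
    exact sc_inj hL (mul_right_cancel h)
  have hassoc : ∀ {T : Over S} (x y z : T ⟶ N),
      pu (lift x y) c * pu (lift (x * y) z) c = pu (lift y z) c * pu (lift x (y * z)) c := by
    intro T x y z
    have h : bc x β * bc y β * bc z β = bc x β * (bc y β * bc z β) := _root_.mul_assoc _ _ _
    rw [key x y, key y z, _root_.mul_assoc, key (x * y) z, ← _root_.mul_assoc (bc x β), ← sc_comm,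
      _root_.mul_assoc (sc A L (pu (lift y z) c)), key x (y * z), ← _root_.mul_assoc, ← _root_.mul_assoc, ← sc_mul,
      ← sc_mul, _root_.mul_assoc x y z] at h
    exact sc_inj hL (mul_right_cancel h)
  have hone : ∀ {T : Over S} (y : T ⟶ N), pu (lift 1 y) c = 1 := by
    intro T y
    have h1 : bc (1 : T ⟶ N) β = 1 := by
      have e : (1 : T ⟶ N) = toUnit T ≫ η := rfl
      rw [e, ← bc_bc, hβ1, map_one]
    have h := key 1 y
    rw [h1, _root_.one_mul, _root_.one_mul] at h
    apply sc_inj hL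
    rw [sc_one]
    exact mul_right_cancel (h.symm.trans (_root_.one_mul _).symm)
  exact ⟨⟨c, hsymm, hassoc, hone⟩, key⟩

end cocycle

omit [IsCommMonObj A] [IsProper A.hom] [Flat A.hom] [LocallyOfFinitePresentation A.hom]
  [GeometricallyIntegral A.hom] hL in
/-- After a base change splitting the cocycle, `N` lifts to the theta group. -/
def klift {N : Over S} [GrpObj N] (i : N ⟶ A) [IsMonHom i] (hcomm : ∀ {T : Over S} (x y : T ⟶ N), x * y = y * x)
    {β : thetaPts A L N} (hβ : pt β = i) (c : Γ((N ⊗ N).left, ⊤)ˣ)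
    (hc : ∀ {T : Over S} (x y : T ⟶ N), bc x β * bc y β = sc A L (pu (lift x y) c) * bc (x * y) β)
    (P : Over S) (b : Γ((P ⊗ N).left, ⊤)ˣ)
    (hb : ∀ {T : Over S} (p : T ⟶ P) (x y : T ⟶ N),
      pu (lift p x) b * pu (lift p y) b = pu (lift x y) c * pu (lift p (x * y)) b) :
    K999.KL.KLift (A := Red.bc P.hom A) (N := Red.bc P.hom N) (bL P.hom L) ((Over.pullback P.hom).map i) where
  σ {T} n := F P.hom L T (sc A L (pu (lift (Over.homMk T.hom rfl : dn P.hom T ⟶ P) (dnP n)) b)⁻¹ * bc (dnP n) β)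
  pt_σ {T} n := by
    rw [pt_F, pt_mul, pt_sc, pt_bc, hβ, _root_.mul_one, up_comp, up_dnP]
  bc_σ {T T'} h n := by
    rw [← F_bc, map_mul, bc_sc, bc_bc, map_inv, pu_comp, comp_lift, dnP_comp]
    have e : dnMap P.hom h ≫ (Over.homMk T.hom rfl : dn P.hom T ⟶ P) = Over.homMk T'.hom rfl := by
      ext1
      exact Over.w h
    rw [e]
  σ_mul {T} x y := by
    have hb' := hb (Over.homMk T.hom rfl : dn P.hom T ⟶ P) (dnP y) (dnP x)
    rw [← map_mul, dnP_mul, hcomm (dnP x)]
    congr 1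
    generalize (Over.homMk T.hom rfl : dn P.hom T ⟶ P) = p at *
    generalize dnP x = x at *
    generalize dnP y = y at *
    have e : sc A L (pu (lift p y) b)⁻¹ * bc y β * (sc A L (pu (lift p x) b)⁻¹ * bc x β) =
        sc A L (pu (lift p y) b)⁻¹ * sc A L (pu (lift p x) b)⁻¹ * (bc y β * bc x β) := by
      rw [_root_.mul_assoc, _root_.mul_assoc]
      congr 1
      rw [← _root_.mul_assoc, ← sc_comm, _root_.mul_assoc]
    rw [e, hc, ← _root_.mul_assoc, ← sc_mul, ← sc_mul]
    congr 2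
    rw [← mul_inv, hb', mul_inv, _root_.mul_comm _ (pu (lift p (y * x)) b)⁻¹, _root_.mul_assoc, inv_mul_cancel,
      _root_.mul_one]

end K969.Isot2
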