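import Groth.Agent.AgPol.K513.PolUniq
import Groth.Agent.AgPol.K969.Isot2

/-!
# The class `(1, lam)^* P` of a polarisation: its square is additive along the 4-torsion

`c = ev (𝟙 A) lam ξ`.

* `sq_mul` : `c²(a b) = P(a, lam b)⁴ c²(a) c²(b)`; `add4`, `sq_triv`;
* `mul_of_hom_eq` : `c(a b) c(a)⁻¹ c(b)⁻¹ = P(a, lam b)` if `lam` is attached to `c`.
-/

set_option autoImplicit false
universe u

open CategoryTheory Limits MonoidalCategory CartesianMonoidalCategory AlgebraicGeometry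
open scoped MonObj

namespace K969.Cls

open Groth.Agent.Grpsch.PicGrp Groth.Agent.Fga.RigGrp K732.PicZero K732.Prim K732.Dual K732.CubeSec
open K814 K732.BC K969.ThBC

variable {S : Scheme.{u}} {A At : Over S} [GrpObj A] [GrpObj At] [IsProper A.hom] [Flat A.hom]
  [LocallyOfFinitePresentation A.hom] [GeometricallyIntegral A.hom]
  {φ : ∀ T : Over S, PicF.Cl (PicF.XT A.hom T) → (T ⟶ At)}
  (hD : AbDual.IsDualAV Scheme.fppfPrecoverage A At φ)
  {ξ : Pic (PicF.XT A.hom At)} (h1 : ξ ∈ pz A.hom At) (h2 : ξ ∈ rg A At) (h3 : cm φ ξ = 𝟙 At)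
  {lam : A ⟶ At} (hlam : AgPol.IsPolarization A At φ lam)

include h1 h2 in
theorem ev_pow_left {W : Over S} (a : W ⟶ A) (y : W ⟶ At) (n : ℕ) : ev (a ^ n) y ξ = ev a y ξ ^ n := by
  induction n with
  | zero => rw [pow_zero, pow_zero, ev_one_of_mem h2]
  | succ n ih => rw [pow_succ, Pair.ev_mul_left h1 h2, ih, pow_succ]

include hD h1 h2 h3 hlam

theorem sq_mul {W : Over S} (a b : W ⟶ A) :
    pull (a * b).left (ev (𝟙 A) lam ξ ^ 2) =
      ev a (b ≫ lam) ξ ^ 4 * pull a.left (ev (𝟙 A) lam ξ ^ 2) * pull b.left (ev (𝟙 A) lam ξ ^ 2) := by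
  have e := Graph.gr_mul_pol hD h1 h2 h3 hlam a b
  rw [MonObj.comp_mul b, Pair.ev_mul_right hD h1 h2 h3, ← sq] at e
  rw [map_pow, map_pow, map_pow, Graph.gr_point, Graph.gr_point, Graph.gr_point, e, mul_pow, mul_pow, ← pow_mul]

/-- `c²` is additive along the 4-torsion. -/
theorem add4 : K969.Isot2.Add (A := A) 4 (ev (𝟙 A) lam ξ ^ 2) := by
  have := hlam.1
  intro W a b hb
  refine (sq_mul hD h1 h2 h3 hlam a b).trans ?_
  rw [← Graph.ev_pow_right hD h1 h2 h3, ← MonObj.pow_comp, hb, MonObj.one_comp, Pair.ev_one_right hD h1 h2 h3, one_mul]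

omit hlam h3 hD in
/-- `c²` is trivial along the 2-torsion. -/
theorem sq_triv {W : Over S} {a : W ⟶ A} (ha : a ^ 2 = 1) : pull a.left (ev (𝟙 A) lam ξ ^ 2) = 1 := by
  rw [map_pow, Graph.gr_point, ← ev_pow_left h1 h2, ha, ev_one_of_mem h2]

end K969.Cls
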