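import Mathlib.AlgebraicGeometry.Morphisms.Finite
import Mathlib.CategoryTheory.Monoidal.Cartesian.Over
import Mathlib.Algebra.Category.Ring.Constructions
import Mathlib.AlgebraicGeometry.Group.Abelian

/-!
# Functions on products of affine schemes over a ring

* `Fn X`: the `k`-algebra of functions on the `k`-scheme `X`; `Fn.map`.
* `tens X Y : Fn X ⊗ Fn Y ≃ₐ[k] Fn (X ⊗ Y)` for affine `X`, `Y`.
-/

set_option autoImplicit false
universe u

open CategoryTheory CategoryTheory.Limits MonoidalCategory CartesianMonoidalCategory AlgebraicGeometry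
open scoped TensorProduct

noncomputable section

namespace K969.FunR

variable {k : Type u} [CommRing k]

/-- Functions on a `k`-scheme. -/
def Fn (X : Over (Spec (CommRingCat.of k))) : Type u := Γ(X.left, ⊤)

instance (X : Over (Spec (CommRingCat.of k))) : CommRing (Fn X) := inferInstanceAs (CommRing Γ(X.left, ⊤))

/-- Pull back of functions, as a ring homomorphism. -/
def pr {T' T : Over (Spec (CommRingCat.of k))} (h : T' ⟶ T) : Fn T →+* Fn T' := h.left.appTop.hom

theorem pr_comp {T'' T' T : Over (Spec (CommRingCat.of k))} (h' : T'' ⟶ T') (h : T' ⟶ T) (v : Fn T) :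
    pr h' (pr h v) = pr (h' ≫ h) v := by
  change (h'.left.appTop.hom) (h.left.appTop.hom v) = ((h' ≫ h).left.appTop.hom) v
  rw [Over.comp_left, Scheme.Hom.comp_appTop]
  rfl

theorem pr_id {T : Over (Spec (CommRingCat.of k))} (v : Fn T) : pr (𝟙 T) v = v := by
  change ((𝟙 T.left : T.left ⟶ T.left).appTop.hom) v = v
  rw [Scheme.Hom.id_appTop]
  rfl

instance (X : Over (Spec (CommRingCat.of k))) : Algebra k (Fn X) :=
  ((X.hom.appTop.hom).comp ((Scheme.ΓSpecIso (CommRingCat.of k)).inv.hom)).toAlgebra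

theorem algebraMap_eq (X : Over (Spec (CommRingCat.of k))) (a : k) :
    algebraMap k (Fn X) a = X.hom.appTop.hom ((Scheme.ΓSpecIso (CommRingCat.of k)).inv.hom a) := rfl

/-- Pull back of functions. -/
def map {T' T : Over (Spec (CommRingCat.of k))} (h : T' ⟶ T) : Fn T →ₐ[k] Fn T' :=
  { pr h with
    commutes' := fun a => by
      change (h.left.appTop.hom) (T.hom.appTop.hom _) = T'.hom.appTop.hom _
      rw [← CommRingCat.comp_apply, ← Scheme.Hom.comp_appTop, Over.w] }

@[simp] theorem map_eq {T' T : Over (Spec (CommRingCat.of k))} (h : T' ⟶ T) (v : Fn T) : map h v = pr h v := rfl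

theorem map_comp {T'' T' T : Over (Spec (CommRingCat.of k))} (h' : T'' ⟶ T') (h : T' ⟶ T) (v : Fn T) :
    map h' (map h v) = map (h' ≫ h) v := pr_comp _ _ _

theorem map_id {T : Over (Spec (CommRingCat.of k))} (v : Fn T) : map (𝟙 T) v = v := pr_id _

theorem bijective_algebraMap_unit : Function.Bijective (algebraMap k (Fn (𝟙_ (Over (Spec (CommRingCat.of k)))))) := by
  have h : (algebraMap k (Fn (𝟙_ (Over (Spec (CommRingCat.of k)))))) =
      ((Scheme.ΓSpecIso (CommRingCat.of k)).inv ≫ (𝟙_ (Over (Spec (CommRingCat.of k)))).hom.appTop).hom := rfl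
  rw [h]
  have h2 : IsIso (Scheme.Hom.appTop (𝟙_ (Over (Spec (CommRingCat.of k)))).hom) := by
    change IsIso (Scheme.Hom.appTop (𝟙 (Spec (CommRingCat.of k))))
    rw [Scheme.Hom.id_appTop]
    infer_instance
  exact ConcreteCategory.bijective_of_isIso ((Scheme.ΓSpecIso (CommRingCat.of k)).inv ≫ (𝟙_ (Over (Spec (CommRingCat.of k)))).hom.appTop)

variable (X Y : Over (Spec (CommRingCat.of k)))

/-- The comparison `Fn X ⊗ Fn Y ⟶ Fn (X ⊗ Y)`. -/
def tensHom : Fn X ⊗[k] Fn Y →ₐ[k] Fn (X ⊗ Y) :=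
  Algebra.TensorProduct.lift (map (fst X Y)) (map (snd X Y)) (fun _ _ => Commute.all _ _)

theorem tensHom_tmul (a : Fn X) (b : Fn Y) : tensHom X Y (a ⊗ₜ b) = map (fst X Y) a * map (snd X Y) b :=
  Algebra.TensorProduct.lift_tmul _ _ _ _ _

variable [IsAffine X.left] [IsAffine Y.left]

theorem bijective_tensHom : Function.Bijective (tensHom X Y) := by
  have hp : IsPullback (fst X Y).left (snd X Y).left X.hom Y.hom := IsPullback.of_hasPullback _ _
  have h1 := isPushout_appTop_of_isPullback hp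
  let i := Scheme.ΓSpecIso (CommRingCat.of k)
  have h2 : IsPushout (i.inv ≫ X.hom.appTop) (i.inv ≫ Y.hom.appTop) (fst X Y).left.appTop (snd X Y).left.appTop :=
    h1.of_iso i (Iso.refl _) (Iso.refl _) (Iso.refl _) (by simp) (by simp) (by simp) (by simp)
  have h3 : IsPushout (i.inv ≫ X.hom.appTop) (i.inv ≫ Y.hom.appTop)
      (CommRingCat.ofHom (Algebra.TensorProduct.includeLeftRingHom : Fn X →+* Fn X ⊗[k] Fn Y))
      (CommRingCat.ofHom (Algebra.TensorProduct.includeRight : Fn Y →ₐ[k] Fn X ⊗[k] Fn Y).toRingHom) :=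
    CommRingCat.isPushout_tensorProduct k (Fn X) (Fn Y)
  let e := h3.isoIsPushout _ _ h2
  have i1 := IsPushout.inl_isoIsPushout_hom _ _ h3 h2
  have i2 := IsPushout.inr_isoIsPushout_hom _ _ h3 h2
  have e1 : ∀ a : Fn X, e.hom.hom (a ⊗ₜ[k] (1 : Fn Y)) = map (fst X Y) a := fun a =>
    congrArg (fun φ : CommRingCat.of (Fn X) ⟶ Γ((X ⊗ Y).left, ⊤) => φ.hom a) i1
  have e2 : ∀ b : Fn Y, e.hom.hom ((1 : Fn X) ⊗ₜ[k] b) = map (snd X Y) b := fun b =>
    congrArg (fun φ : CommRingCat.of (Fn Y) ⟶ Γ((X ⊗ Y).left, ⊤) => φ.hom b) i2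
  have he : ∀ z, e.hom.hom z = tensHom X Y z := by
    intro z
    induction z using TensorProduct.induction_on with
    | zero => rw [map_zero, map_zero]; rfl
    | tmul a b =>
      have : a ⊗ₜ[k] b = (a ⊗ₜ[k] (1 : Fn Y)) * ((1 : Fn X) ⊗ₜ[k] b) := by
        rw [Algebra.TensorProduct.tmul_mul_tmul, mul_one, one_mul]
      rw [this, map_mul, e1, e2, map_mul, tensHom_tmul, tensHom_tmul, map_one, map_one, mul_one, one_mul]; rfl
    | add x y hx hy => rw [map_add, map_add, hx, hy]; rfl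
  have h4 : Function.Bijective e.hom.hom := ConcreteCategory.bijective_of_isIso e.hom
  have h5 : (tensHom X Y : Fn X ⊗[k] Fn Y → Fn (X ⊗ Y)) = e.hom.hom := funext fun z => (he z).symm
  rw [h5]
  exact h4

/-- `Fn X ⊗ Fn Y ≃ Fn (X ⊗ Y)`. -/
def tens : Fn X ⊗[k] Fn Y ≃ₐ[k] Fn (X ⊗ Y) := AlgEquiv.ofBijective (tensHom X Y) (bijective_tensHom X Y)

theorem tens_tmul (a : Fn X) (b : Fn Y) : tens X Y (a ⊗ₜ b) = map (fst X Y) a * map (snd X Y) b :=
  tensHom_tmul X Y a b

end K969.FunR
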