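import Groth.Agent.AgPol.K969.TwistR
import Mathlib.RingTheory.Finiteness.ModuleFinitePresentation
import Mathlib.AlgebraicGeometry.Morphisms.FinitePresentation
import Mathlib.AlgebraicGeometry.Morphisms.Flat
import Mathlib.AlgebraicGeometry.Morphisms.Finite

/-!
# Symmetric cocycles split after a finite flat surjective base change

`c : Cocycle N`, `N` finite locally free commutative over `Spec k`, `k` a ring.

* `exists_universal` : there is `P` finite flat surjective over `Spec k` and a unit `b` on `P × N` with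
  `b(p, x) b(p, y) = c(x, y) b(p, x y)`.
-/

set_option autoImplicit false
universe u v

open CategoryTheory CategoryTheory.Limits MonoidalCategory CartesianMonoidalCategory MonObj AlgebraicGeometry
open scoped TensorProduct

noncomputable section

namespace K969.FunR

section lin

variable {k : Type u} [CommRing k] {C : Type v} [AddCommGroup C] [Module k C]

/-- Finite dual bases. -/
theorem exists_dualBasis [Module.Finite k C] [Module.Projective k C] :
    ∃ (n : ℕ) (e : Fin n → C) (f : Fin n → (C →ₗ[k] k)), ∀ x, ∑ i, f i x • e i = x := by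
  obtain ⟨n, g, hg⟩ := Module.Finite.exists_fin' k C
  obtain ⟨s, hs⟩ := Module.projective_lifting_property g LinearMap.id hg
  refine ⟨n, fun i => g (Pi.single i 1), fun i => (LinearMap.proj i).comp s, fun x => ?_⟩
  have h1 : g (s x) = x := LinearMap.congr_fun hs x
  conv_rhs => rw [← h1]
  have h2 : s x = ∑ i, s x i • (Pi.single i 1 : Fin n → k) := by
    ext j
    simp [Finset.sum_apply, Pi.single_apply]
  conv_rhs => rw [h2]
  rw [map_sum]
  refine Finset.sum_congr rfl fun i _ => ?_
  rw [map_smul]
  rfl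

variable {n : ℕ} {e : Fin n → C} {f : Fin n → (C →ₗ[k] k)} (h : ∀ x, ∑ i, f i x • e i = x)

include h in
theorem sum_dual (g : C →ₗ[k] k) : ∑ i, g (e i) • f i = g := by
  ext x
  rw [LinearMap.sum_apply]
  conv_rhs => rw [← h x, map_sum]
  refine Finset.sum_congr rfl fun i _ => ?_
  rw [LinearMap.smul_apply, map_smul, smul_eq_mul, smul_eq_mul, mul_comm]

include h in
theorem sum_tensor (t : C ⊗[k] C) :
    ∑ i, ∑ j, LinearMap.mul' k k (TensorProduct.map (f i) (f j) t) • (e i ⊗ₜ[k] e j) = t := by
  induction t using TensorProduct.induction_on with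
  | zero => simp
  | tmul a b =>
    conv_rhs => rw [← h a, ← h b, TensorProduct.sum_tmul]
    refine Finset.sum_congr rfl fun i _ => ?_
    rw [TensorProduct.tmul_sum]
    refine Finset.sum_congr rfl fun j _ => ?_
    rw [TensorProduct.map_tmul, LinearMap.mul'_apply, TensorProduct.smul_tmul_smul]
  | add a b ha hb =>
    conv_rhs => rw [← ha, ← hb]
    rw [← Finset.sum_add_distrib]
    refine Finset.sum_congr rfl fun i _ => ?_
    rw [← Finset.sum_add_distrib]
    refine Finset.sum_congr rfl fun j _ => ?_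
    rw [map_add, map_add, add_smul]

end lin

namespace Cocycle

variable {k : Type u} [CommRing k] {N : Over (Spec (CommRingCat.of k))} [GrpObj N] [IsAffine N.left] (c : Cocycle N)

theorem isCocomm (hN : ∀ {T : Over (Spec (CommRingCat.of k))} (x y : T ⟶ N), x * y = y * x) :
    @Coalgebra.IsCocomm k (Fn N) _ _ _ c.coalgebra := by
  let _ : Coalgebra k (Fn N) := c.coalgebra
  refine ⟨?_⟩
  ext r
  apply ev₂_inj N
  change ev₂ _ _ (TensorProduct.comm k _ _ (c.comul r)) = ev₂ _ _ (c.comul r)
  rw [ev₂_comm, ev₂_comul, ev₂_comul, val_symm, hN]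

/-- The splitting defined by an algebra homomorphism from the dual algebra. -/
theorem split_aux (hN : ∀ {T : Over (Spec (CommRingCat.of k))} (x y : T ⟶ N), x * y = y * x) {n : ℕ}
    {e : Fin n → Fn N} {f : Fin n → (Fn N →ₗ[k] k)} (h : ∀ x, ∑ i, f i x • e i = x) :
    letI : Coalgebra k (Fn N) := c.coalgebra
    letI : Coalgebra.IsCocomm k (Fn N) := c.isCocomm hN
    ∀ {T : Over (Spec (CommRingCat.of k))} (ψ : WithConv (Fn N →ₗ[k] k) →ₐ[k] Fn T) (x y : T ⟶ N),
      (∑ i, ψ (WithConv.toConv (f i)) * map x (e i)) * (∑ i, ψ (WithConv.toConv (f i)) * map y (e i)) =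
        c.val x y * ∑ i, ψ (WithConv.toConv (f i)) * map (x * y) (e i) := by
  let _ : Coalgebra k (Fn N) := c.coalgebra
  let _ : Coalgebra.IsCocomm k (Fn N) := c.isCocomm hN
  intro T ψ x y
  have e1 : c.val x y * ∑ i, ψ (WithConv.toConv (f i)) * map (x * y) (e i) =
      ∑ l, ψ (WithConv.toConv (f l)) * ev₂ x y (c.comul (e l)) := by
    rw [Finset.mul_sum]
    refine Finset.sum_congr rfl fun i _ => ?_
    rw [ev₂_comul, mul_left_comm]
  have e2 : ∀ i j, ψ (WithConv.toConv (f i)) * ψ (WithConv.toConv (f j)) =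
      ∑ l, LinearMap.mul' k k (TensorProduct.map (f i) (f j) (c.comul (e l))) • ψ (WithConv.toConv (f l)) := by
    intro i j
    have h1 : WithConv.toConv (f i) * WithConv.toConv (f j) =
        WithConv.toConv (LinearMap.mul' k k ∘ₗ TensorProduct.map (f i) (f j) ∘ₗ c.comul) := rfl
    rw [← map_mul, h1, ← sum_dual h (LinearMap.mul' k k ∘ₗ TensorProduct.map (f i) (f j) ∘ₗ c.comul)]
    rw [WithConv.toConv_sum, map_sum]
    refine Finset.sum_congr rfl fun l _ => ?_
    rw [WithConv.toConv_smul, map_smul]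
    rfl
  rw [e1, Finset.sum_mul_sum]
  have e3 : ∀ l, ev₂ x y (c.comul (e l)) = ∑ i, ∑ j,
      LinearMap.mul' k k (TensorProduct.map (f i) (f j) (c.comul (e l))) • (map x (e i) * map y (e j)) := by
    intro l
    conv_lhs => rw [← sum_tensor h (c.comul (e l)), map_sum]
    refine Finset.sum_congr rfl fun i _ => ?_
    rw [map_sum]
    refine Finset.sum_congr rfl fun j _ => ?_
    rw [map_smul, ev₂_tmul]
  simp only [e3, Finset.mul_sum]
  conv_rhs => rw [Finset.sum_comm]
  refine Finset.sum_congr rfl fun i _ => ?_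
  conv_rhs => rw [Finset.sum_comm]
  refine Finset.sum_congr rfl fun j _ => ?_
  rw [_root_.mul_mul_mul_comm, e2, Finset.sum_mul]
  refine Finset.sum_congr rfl fun l _ => ?_
  rw [smul_mul_assoc, mul_smul_comm]

/-- The value of the splitting at the unit point. -/
theorem split_one (hN : ∀ {T : Over (Spec (CommRingCat.of k))} (x y : T ⟶ N), x * y = y * x) {n : ℕ}
    {e : Fin n → Fn N} {f : Fin n → (Fn N →ₗ[k] k)} (h : ∀ x, ∑ i, f i x • e i = x) :
    letI : Coalgebra k (Fn N) := c.coalgebra
    letI : Coalgebra.IsCocomm k (Fn N) := c.isCocomm hN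
    ∀ {T : Over (Spec (CommRingCat.of k))} (ψ : WithConv (Fn N →ₗ[k] k) →ₐ[k] Fn T),
      ∑ i, ψ (WithConv.toConv (f i)) * map (1 : T ⟶ N) (e i) = 1 := by
  let _ : Coalgebra k (Fn N) := c.coalgebra
  let _ : Coalgebra.IsCocomm k (Fn N) := c.isCocomm hN
  intro T ψ
  have h1 : (1 : WithConv (Fn N →ₗ[k] k)) = WithConv.toConv (eps N).toLinearMap := rfl
  rw [← map_one ψ, h1, ← sum_dual h (eps N).toLinearMap, WithConv.toConv_sum, map_sum]
  refine Finset.sum_congr rfl fun i _ => ?_
  rw [WithConv.toConv_smul, map_smul, ← algebraMap_eps, Algebra.smul_def, mul_comm]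
  rfl

/-- **Universal splitting.** -/
theorem exists_universal [Module.Finite k (Fn N)] [Module.Projective k (Fn N)]
    (hN : ∀ {T : Over (Spec (CommRingCat.of k))} (x y : T ⟶ N), x * y = y * x) :
    ∃ (P : Over (Spec (CommRingCat.of k))) (b : (Fn (P ⊗ N))ˣ), IsFinite P.hom ∧ Flat P.hom ∧ Surjective P.hom ∧
      LocallyOfFinitePresentation P.hom ∧ ∀ {T : Over (Spec (CommRingCat.of k))} (p : T ⟶ P) (x y : T ⟶ N),
        map (lift p x) b.1 * map (lift p y) b.1 = c.val x y * map (lift p (x * y)) b.1 := by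
  let _ : Coalgebra k (Fn N) := c.coalgebra
  let _ : Coalgebra.IsCocomm k (Fn N) := c.isCocomm hN
  obtain ⟨n, e, f, h⟩ := exists_dualBasis (k := k) (C := Fn N)
  let D : Type u := WithConv (Fn N →ₗ[k] k)
  have hfin : Module.Finite k D :=
    Module.Finite.equiv (WithConv.linearEquiv k (Fn N →ₗ[k] k)).symm
  have hproj : Module.Projective k D := 
    Module.Projective.of_equiv (WithConv.linearEquiv k (Fn N →ₗ[k] k)).symm
  have hinj : Function.Injective (algebraMap k D) := by
    rw [injective_iff_map_eq_zero]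
    intro r hr
    have h1 : algebraMap k D r = WithConv.toConv (r • (eps N).toLinearMap) := by
      rw [Algebra.algebraMap_eq_smul_one]
      rfl
    have h2 : r • (eps N).toLinearMap = 0 := by
      rw [h1] at hr
      exact WithConv.toConv_eq_zero.mp hr
    have h3 := LinearMap.congr_fun h2 1
    rw [LinearMap.smul_apply, AlgHom.toLinearMap_apply, map_one, LinearMap.zero_apply, smul_eq_mul, _root_.mul_one] at h3
    exact h3
  let P : Over (Spec (CommRingCat.of k)) := Over.mk (Spec.map (CommRingCat.ofHom (algebraMap k D)))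
  let χ : D →ₐ[k] Fn P :=
    { ((Scheme.ΓSpecIso (CommRingCat.of D)).inv.hom : D →+* Γ(Spec (CommRingCat.of D), ⊤)) with
      commutes' := fun a => by
        change (Scheme.ΓSpecIso (CommRingCat.of D)).inv.hom ((CommRingCat.ofHom (algebraMap k D)).hom a) =
          (Spec.map (CommRingCat.ofHom (algebraMap k D))).appTop.hom ((Scheme.ΓSpecIso (CommRingCat.of k)).inv.hom a)
        rw [← CommRingCat.comp_apply, ← CommRingCat.comp_apply, Scheme.ΓSpecIso_inv_naturality] }
  let b₀ : Fn (P ⊗ N) := ∑ i, map (fst P N) (χ (WithConv.toConv (f i))) * map (snd P N) (e i)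
  have hb₀ : ∀ {T : Over (Spec (CommRingCat.of k))} (p : T ⟶ P) (x : T ⟶ N),
      map (lift p x) b₀ = ∑ i, ((map p).comp χ) (WithConv.toConv (f i)) * map x (e i) := by
    intro T p x
    rw [map_sum]
    refine Finset.sum_congr rfl fun i _ => ?_
    rw [map_mul, map_comp, map_comp, lift_fst, lift_snd]
    rfl
  have key : ∀ {T : Over (Spec (CommRingCat.of k))} (p : T ⟶ P) (x y : T ⟶ N),
      map (lift p x) b₀ * map (lift p y) b₀ = c.val x y * map (lift p (x * y)) b₀ := by
    intro T p x y
    rw [hb₀, hb₀, hb₀]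
    exact c.split_aux hN h ((map p).comp χ) x y
  have hu : IsUnit b₀ := by
    have h1 := key (fst P N) (snd P N) (snd P N)⁻¹
    have h2 : map (lift (fst P N) (1 : P ⊗ N ⟶ N)) b₀ = 1 := by
      rw [hb₀]
      exact c.split_one hN h ((map (fst P N)).comp χ)
    rw [mul_inv_cancel, h2, _root_.mul_one, lift_fst_snd, map_id] at h1
    have h3 : IsUnit (c.val (snd P N) (snd P N)⁻¹) := c.c.isUnit.map (map (lift (snd P N) (snd P N)⁻¹))
    rw [← h1] at h3
    exact isUnit_of_mul_isUnit_left h3
  obtain ⟨b, hb⟩ := hu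
  refine ⟨P, b, ?_, ?_, ?_, ?_, fun p x y => by rw [hb]; exact key p x y⟩
  · change IsFinite (Spec.map (CommRingCat.ofHom (algebraMap k D)))
    rw [IsFinite.SpecMap_iff]
    exact RingHom.finite_algebraMap.mpr hfin
  · change Flat (Spec.map (CommRingCat.ofHom (algebraMap k D)))
    rw [Flat.SpecMap_iff]
    exact RingHom.flat_algebraMap_iff.mpr inferInstance
  · change Surjective (Spec.map (CommRingCat.ofHom (algebraMap k D)))
    have h1 : Algebra.IsIntegral k D := inferInstance
    have h2 : FaithfulSMul k D := (faithfulSMul_iff_algebraMap_injective k D).mpr hinj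
    exact ⟨Algebra.IsIntegral.comap_surjective k D⟩
  · change LocallyOfFinitePresentation (Spec.map (CommRingCat.ofHom (algebraMap k D)))
    rw [LocallyOfFinitePresentation.SpecMap_iff]
    have h1 : Module.FinitePresentation k D := Module.finitePresentation_of_projective k D
    have h2 : Algebra.FinitePresentation k D := inferInstance
    exact RingHom.finitePresentation_algebraMap.mpr h2

end Cocycle

end K969.FunR
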